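import Cfsg.Agent.Lib.SmallSimple.OctahedralData

/-!
# Finite facts about `GL(2,3)` as an involution centralizer
-/

set_option autoImplicit false
set_option maxRecDepth 4000
set_option synthInstance.maxSize 4000
set_option synthInstance.maxHeartbeats 400000

namespace Cfsg.Agent.Recog.CentGL23

open Cfsg.Agent.Recog.GL23 (M x y)

/-- An element of order three. -/
def u : M := ⟨!![1, 1; 0, 1], !![1, 2; 0, 1], by decide, by decide⟩

/-- An involution inverting it. -/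
def s : M := ⟨!![2, 0; 0, 1], !![2, 0; 0, 1], by decide, by decide⟩

theorem u_pow : (u : M) ^ 3 = 1 ∧ (u : M) ≠ 1 := by decide +kernel

theorem s_invol : (s : M) * s = 1 ∧ (s : M) ≠ 1 ∧ (s : M) ≠ x ^ 4 ∧ s * u * s⁻¹ = u⁻¹ := by decide +kernel

theorem y_out : ∀ k < 8, (x : M) ^ k ≠ y := by decide +kernel

theorem S_outside : ∀ m : M, (m * x = x * m ∨ m * x = x ^ 3 * m) → (∀ k < 8, (x : M) ^ k ≠ m) → m ≠ 1 := by
  decide +kernel

theorem zpow_involution : ∀ k < 8, ((x : M) ^ k) * x ^ k = 1 → (x : M) ^ k = 1 ∨ (x : M) ^ k = x ^ 4 := by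
  decide +kernel

theorem invol_cases : ∀ m : M, m * m = 1 → m = 1 ∨ m = x ^ 4 ∨ ∃ a : M, a * s * a⁻¹ = m := by decide +kernel

/-- The elements of order prime to two. -/
theorem pow_odd : ∀ m : M, m ^ 351 = 1 → m ^ 3 = 1 := by decide +kernel

theorem order_three_commute : ∀ m n : M, m ^ 3 = 1 → n ^ 3 = 1 → m * n = n * m → n ≠ 1 →
    m = 1 ∨ m = n ∨ m = n⁻¹ := by decide +kernel

theorem order_three_conj : ∀ m : M, m ^ 3 = 1 → m ≠ 1 → ∃ a : M, a * u * a⁻¹ = m := by decide +kernel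

theorem centralizer_u : ∀ m : M, m * u = u * m →
    m = 1 ∨ m = u ∨ m = u⁻¹ ∨ m = x ^ 4 ∨ m = x ^ 4 * u ∨ m = x ^ 4 * u⁻¹ := by decide +kernel

/-- A nontrivial normal subgroup contains an involution. -/
theorem normal_involution : ∀ m : M, m ≠ 1 → (m * m = 1) ∨ (m ^ 2 ≠ 1 ∧ m ^ 4 = 1) ∨ (m ^ 3 ≠ 1 ∧ m ^ 6 = 1) ∨
    (m ^ 4 ≠ 1 ∧ m ^ 8 = 1) ∨ ∃ a : M, (m * (a * m * a⁻¹)) ^ 2 ≠ 1 ∧ (m * (a * m * a⁻¹)) ^ 4 = 1 := by
  decide +kernel

/-- The conjugates of the noncentral involution generate. -/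
theorem gen_by_conj : ∀ m : M, ∃ a b : M, m = a * s * a⁻¹ * (b * s * b⁻¹) ∨ ∃ c : M,
    m = a * s * a⁻¹ * (b * s * b⁻¹) * (c * s * c⁻¹) := by decide +kernel

end Cfsg.Agent.Recog.CentGL23
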