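import Cfsg.Agent.Lib.SmallSimple.OctahedralData

/-!
# Elements of order three in `GL(2,3)`
-/

set_option autoImplicit false
set_option maxRecDepth 4000
set_option synthInstance.maxSize 4000
set_option synthInstance.maxHeartbeats 400000

namespace Cfsg.Agent.Recog.CentGL23

open Cfsg.Agent.Recog.GL23 (M)

theorem order_three_list : ∀ n : M, n ^ 3 = 1 → n ≠ 1 → ∀ m : M, m ^ 3 = 1 → (m * n) ^ 3 = 1 →
    (m * n⁻¹) ^ 3 = 1 → m = 1 ∨ m = n ∨ m = n⁻¹ := by decide +kernel

end Cfsg.Agent.Recog.CentGL23
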