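import Mathlib

/-!
# Coordinates in elementary abelian groups of order nine and twenty-seven, and their orbit combinatorics
-/

set_option autoImplicit false
set_option maxRecDepth 8000

namespace Cfsg.Agent.Recog.CentGL23

variable {G : Type*} [Group G]

/-- A power indexed by the integers modulo three. -/
def pw (a : G) (i : ZMod 3) : G := a ^ i.val

theorem pw_add {a : G} (ha : a ^ 3 = 1) (i j : ZMod 3) : pw a (i + j) = pw a i * pw a j := by
  unfold pw
  rw [← pow_add, ZMod.val_add, pow_eq_pow_mod (i.val + j.val) ha]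

theorem pw_zero (a : G) : pw a 0 = 1 := pow_zero a

theorem pw_one (a : G) : pw a 1 = a := pow_one a

theorem pw_neg {a : G} (ha : a ^ 3 = 1) (i : ZMod 3) : pw a (-i) = (pw a i)⁻¹ := by
  rw [eq_inv_iff_mul_eq_one, ← pw_add ha, neg_add_cancel, pw_zero]

theorem pw_mem {S : Subgroup G} {a : G} (ha : a ∈ S) (i : ZMod 3) : pw a i ∈ S := pow_mem ha _

theorem pw_conj (g a : G) (i : ZMod 3) : g * pw a i * g⁻¹ = pw (g * a * g⁻¹) i := conj_pow.symm

theorem pw_commute {a b : G} (h : a * b = b * a) (i j : ZMod 3) : pw a i * pw b j = pw b j * pw a i :=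
  (Commute.pow_pow (show Commute a b from h) _ _).eq

/-- Vectors. -/
abbrev V2 := ZMod 3 × ZMod 3

/-- The linear map with given images of the basis. -/
def lin (v w e : V2) : V2 := (e.1 * v.1 + e.2 * w.1, e.1 * v.2 + e.2 * w.2)

/-- One closure step under a linear map and the two diagonal sign changes. -/
def step (v w : V2) (R : Finset V2) : Finset V2 :=
  R ∪ R.image (lin v w) ∪ R.image (fun e => (e.1, -e.2)) ∪ R.image (fun e => (-e.1, e.2))

theorem reach_single : ∀ v w : V2, (∀ e : V2, lin v w (lin v w (lin v w e)) = e) → v ≠ (1, 0) → w ≠ (0, 1) →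
    ∀ e : V2, e ≠ 0 → e ∈ step v w (step v w (step v w (step v w {(1, 0)}))) := by decide +kernel

theorem reach_pair : ∀ w v : V2, w ≠ (0, 1) → v ≠ (1, 0) →
    (∀ e : V2, lin (1, 0) w (lin (1, 0) w (lin (1, 0) w e)) = e) →
    (∀ e : V2, lin v (0, 1) (lin v (0, 1) (lin v (0, 1) e)) = e) →
    ∀ e : V2, e ≠ 0 →
      e ∈ step (1, 0) w (step v (0, 1) (step (1, 0) w (step v (0, 1) (step (1, 0) w (step v (0, 1) {(1, 0)}))))) := by
  decide +kernel

theorem card_nonzero : (Finset.univ.filter fun e : V2 => e ≠ 0).card = 8 := by decide +kernel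

/-- Vectors. -/
abbrev V3 := ZMod 3 × ZMod 3 × ZMod 3

/-- The six vectors on the axes. -/
def axes : Finset V3 := {(1, 0, 0), (-1, 0, 0), (0, 1, 0), (0, -1, 0), (0, 0, 1), (0, 0, -1)}

/-- The sign changes of a vector. -/
def signs (w : V3) : Finset V3 :=
  {w, (w.1, -w.2.1, -w.2.2), (-w.1, w.2.1, -w.2.2), (-w.1, -w.2.1, w.2.2),
    -w, -(w.1, -w.2.1, -w.2.2), -(-w.1, w.2.1, -w.2.2), -(-w.1, -w.2.1, w.2.2)}

theorem signs_big : ∀ w : V3, w ≠ 0 → w ∉ axes → 8 < (axes ∪ signs w).card := by decide +kernel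

theorem card_axes : axes.card = 6 := by decide +kernel

end Cfsg.Agent.Recog.CentGL23
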