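import Mathlib
import Cfsg.Agent.Lib.Recog.CentGL23.Data
import Cfsg.Agent.Lib.SmallSimple.Octahedral
import Cfsg.Agent.Lib.InvChar.Thompson
import Cfsg.Agent.Lib.Transfer.Residual

/-!
# A group with an involution centralizer `GL(2,3)` and no quotient of order two is simple
-/

set_option autoImplicit false

namespace Cfsg.Agent.Recog.CentGL23

open scoped Pointwise
open Cfsg.Agent.Recog.GL23 (M x y)
open Cfsg.Agent.SmallSimple.Octahedral (x_pow_four_ne x_pow_eight x_pow_four_sq x_pow_four_central)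

variable {G : Type*} [Group G]

/-- The centralizer of the involution `emb (x ^ 4)` is the image of `emb`. -/
structure Ctx (G : Type*) [Group G] where
  /-- the embedding -/
  emb : M →* G
  inj : Function.Injective emb
  range : ∀ a : G, a * emb (x ^ 4) = emb (x ^ 4) * a → ∃ m, emb m = a

theorem exists_ctx (t : G) (ht : orderOf t = 2) (e : Subgroup.centralizer ({t} : Set G) ≃* M) :
    ∃ C : Ctx G, C.emb (x ^ 4) = t := by
  set emb : M →* G := (Subgroup.centralizer ({t} : Set G)).subtype.comp e.symm.toMonoidHom with hemb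
  have hinj : Function.Injective emb := fun a b h => e.symm.injective (Subtype.ext h)
  have hmem : ∀ m : M, emb m * t = t * emb m := fun m => Subgroup.mem_centralizer_singleton_iff.1 (e.symm m).2
  have hrange : ∀ a : G, a * t = t * a → ∃ m, emb m = a := fun a ha =>
    ⟨e ⟨a, Subgroup.mem_centralizer_singleton_iff.2 ha⟩, by simp [hemb]⟩
  have ht2 : t * t = 1 := by rw [← pow_two, ← ht, pow_orderOf_eq_one]
  obtain ⟨m, hm⟩ := hrange t rfl
  rcases Cfsg.Agent.SmallSimple.Octahedral.center_involution m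
    (fun a => hinj (by rw [map_mul, map_mul, hm, hmem a])) (hinj (by rw [map_mul, hm, ht2, map_one])) with h | h
  · rw [h, map_one] at hm
    rw [← hm, orderOf_one] at ht
    omega
  · rw [h] at hm
    exact ⟨⟨emb, hinj, fun a ha => hrange a (hm ▸ ha)⟩, hm⟩

namespace Ctx

variable (C : Ctx G)

theorem t_sq : C.emb (x ^ 4) * C.emb (x ^ 4) = 1 := by rw [← map_mul, x_pow_four_sq, map_one]

theorem t_ne : C.emb (x ^ 4) ≠ 1 := fun h => x_pow_four_ne (C.inj (by rw [h, map_one]))

/-- A Sylow two-subgroup lies in the centralizer and has order sixteen. -/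
theorem exists_sylow [Finite G] :
    ∃ P : Sylow 2 G, (P : Subgroup G) = Cfsg.Agent.Recog.GL23.S.map C.emb := by
  haveI : Fact (Nat.Prime 2) := ⟨Nat.prime_two⟩
  set T : Subgroup G := Cfsg.Agent.Recog.GL23.S.map C.emb with hT
  have hT16 : Nat.card T = 2 ^ 4 := by
    rw [hT, Subgroup.card_map_of_injective C.inj, Cfsg.Agent.Recog.GL23.card_S]; rfl
  obtain ⟨P, hP⟩ := (IsPGroup.of_card hT16).exists_le_sylow
  refine ⟨P, (Subgroup.eq_of_le_of_card_ge hP ?_).symm⟩
  have hxT : C.emb x ∈ (P : Subgroup G) := hP (Subgroup.mem_map_of_mem C.emb (Or.inl rfl))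
  have hyT : C.emb y ∈ (P : Subgroup G) := hP (Subgroup.mem_map_of_mem C.emb (Or.inr (by decide +kernel)))
  haveI : Nontrivial P := by
    rw [← Finite.one_lt_card_iff_nontrivial]
    exact lt_of_lt_of_le (by norm_num) (hT16 ▸ Nat.le_of_dvd Nat.card_pos (Subgroup.card_dvd_of_le hP))
  haveI := P.isPGroup'.center_nontrivial
  obtain ⟨k, hk⟩ := (IsPGroup.iff_card).1 (P.isPGroup'.to_subgroup (Subgroup.center P))
  obtain ⟨z, hz⟩ := exists_prime_orderOf_dvd_card' (G := Subgroup.center P) 2 (by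
    rw [hk]
    refine dvd_pow_self 2 fun h0 => ?_
    rw [h0, pow_zero] at hk
    exact absurd hk (Finite.one_lt_card_iff_nontrivial.2 inferInstance).ne')
  have hzc : ∀ a ∈ (P : Subgroup G), ((z : P) : G) * a = a * ((z : P) : G) := fun a ha =>
    (congrArg Subtype.val (Subgroup.mem_center_iff.1 z.2 ⟨a, ha⟩)).symm
  have hzz : ((z : P) : G) * ((z : P) : G) = 1 := by
    have : z * z = 1 := by have h := pow_orderOf_eq_one z; rwa [hz, pow_two] at h
    exact congrArg (fun w : Subgroup.center P => ((w : P) : G)) this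
  have hz1 : ((z : P) : G) ≠ 1 := fun h => by
    have : z = 1 := Subtype.ext (Subtype.ext h)
    rw [this, orderOf_one] at hz
    omega
  have htP : C.emb (x ^ 4) ∈ (P : Subgroup G) := by rw [map_pow]; exact pow_mem hxT 4
  obtain ⟨m, hm⟩ := C.range _ (hzc _ htP)
  have hzt : ((z : P) : G) = C.emb (x ^ 4) := by
    rcases Cfsg.Agent.SmallSimple.Octahedral.two_group_involution m
      (C.inj (by rw [map_mul, map_mul, hm]; exact hzc _ hxT))
      (C.inj (by rw [map_mul, map_mul, hm]; exact hzc _ hyT)) (C.inj (by rw [map_mul, hm, hzz, map_one])) with h | h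
    · exact absurd (by rw [← hm, h, map_one]) hz1
    · rw [← hm, h]
  have hle : (P : Subgroup G) ≤ C.emb.range := fun a ha => by
    obtain ⟨m, hm⟩ := C.range a (by rw [← hzt]; exact (hzc a ha).symm)
    exact ⟨m, hm⟩
  obtain ⟨n, hn⟩ := IsPGroup.iff_card.1 P.isPGroup'
  have hd : 2 ^ n ∣ 48 := by
    rw [← hn, ← Cfsg.Agent.Recog.GL23.card_M, Nat.card_congr (MonoidHom.ofInjective C.inj).toEquiv]
    exact Subgroup.card_dvd_of_le hle
  have hn4 : n ≤ 4 := by
    by_contra h
    have := (pow_dvd_pow 2 (show 5 ≤ n by omega)).trans hd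
    norm_num at this
  rw [hn, hT16]
  exact Nat.pow_le_pow_right (by norm_num) hn4

theorem centralP [Finite G] (P : Sylow 2 G) (hP : (P : Subgroup G) = Cfsg.Agent.Recog.GL23.S.map C.emb) (g : G)
    (hg : g ∈ Subgroup.normalizer ((P : Subgroup G) : Set G)) (a : G) (ha : a ∈ (P : Subgroup G)) :
    g * C.emb (x ^ 4) * g⁻¹ * a = a * (g * C.emb (x ^ 4) * g⁻¹) := by
  have h := (Subgroup.mem_normalizer_iff.1 (inv_mem hg) a).1 ha
  rw [inv_inv, hP] at h
  obtain ⟨m, -, hm⟩ := h
  calc g * C.emb (x ^ 4) * g⁻¹ * a = g * (C.emb (x ^ 4) * (g⁻¹ * a * g)) * g⁻¹ := by group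
    _ = g * ((g⁻¹ * a * g) * C.emb (x ^ 4)) * g⁻¹ := by rw [← hm, ← map_mul, ← map_mul, x_pow_four_central]
    _ = a * (g * C.emb (x ^ 4) * g⁻¹) := by group

theorem no_index_two [Finite G] (hO : Cfsg.pResidual 2 G = ⊤) : ∀ H : Subgroup G, H.Normal → H.index ≠ 2 := by
  intro H hH hi
  haveI := hH
  haveI : Fact (Nat.Prime 2) := ⟨Nat.prime_two⟩
  have h := Cfsg.Agent.Transfer.pResidual_le_of_index_eq_pow (p := 2) H (k := 1) (by rw [hi, pow_one])
  rw [hO, top_le_iff] at h
  rw [h, Subgroup.index_top] at hi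
  omega

/-- All involutions are conjugate. -/
theorem involution_conj [Finite G] (hO : Cfsg.pResidual 2 G = ⊤) (w : G) (hw : w * w = 1) (hw1 : w ≠ 1) :
    IsConj (C.emb (x ^ 4)) w := by
  haveI : Fact (Nat.Prime 2) := ⟨Nat.prime_two⟩
  obtain ⟨P, hP⟩ := C.exists_sylow
  have hy : IsConj (C.emb (x ^ 4)) (C.emb y) := by
    set Mc : Subgroup G := (Subgroup.zpowers x).map C.emb with hMc
    have hxS : Subgroup.zpowers x ≤ Cfsg.Agent.Recog.GL23.S := Subgroup.zpowers_le.2 (Or.inl rfl)
    have hmem : ∀ g ∈ Mc, ∃ k < 8, C.emb (x ^ k) = g := by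
      rintro g ⟨m, hm, rfl⟩
      obtain ⟨k, rfl⟩ := Submonoid.mem_powers_iff _ _ |>.1 (mem_powers_iff_mem_zpowers.2 hm)
      refine ⟨k % 8, Nat.mod_lt _ (by norm_num), ?_⟩
      conv_rhs => rw [← Nat.mod_add_div k 8, pow_add, pow_mul, x_pow_eight, one_pow, mul_one]
    have hMS : Mc ≤ (P : Subgroup G) := hP ▸ Subgroup.map_mono hxS
    have hrel : Mc.relIndex (P : Subgroup G) = 2 := by
      have h1 := Subgroup.card_mul_index (Mc.subgroupOf (P : Subgroup G))
      rw [Nat.card_congr (Subgroup.subgroupOfEquivOfLe hMS).toEquiv] at h1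
      rw [Subgroup.relIndex]
      have h2 : Nat.card Mc = 8 := by
        rw [hMc, Subgroup.card_map_of_injective C.inj, Nat.card_zpowers, Cfsg.Agent.Recog.GL23.x_order]
      have h3 : Nat.card (P : Subgroup G) = 16 := by
        rw [hP, Subgroup.card_map_of_injective C.inj, Cfsg.Agent.Recog.GL23.card_S]
      rw [h2, h3] at h1
      omega
    have hy2 : orderOf (C.emb y) = 2 ^ 1 := by
      rw [pow_one]
      exact orderOf_eq_prime (by rw [pow_two, ← map_mul, Cfsg.Agent.SmallSimple.Octahedral.y_involution.1, map_one])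
        (fun h => Cfsg.Agent.SmallSimple.Octahedral.y_involution.2.1 (C.inj (h.trans C.emb.map_one.symm)))
    obtain ⟨g, hg, -⟩ := Cfsg.Agent.InvChar.thompson_transfer (no_index_two hO) P Mc hMS hrel 1
      (fun a ha haM => by
        have ha1 : orderOf a ≠ 1 := fun h => haM (by rw [orderOf_eq_one_iff.1 h]; exact one_mem _)
        have := orderOf_pos a
        omega)
      (C.emb y) hy2 ⊥ IsPGroup.of_bot (fun r hr => by rw [Subgroup.mem_bot.1 hr, one_mul, mul_one])
    obtain ⟨k, hk, hk'⟩ := hmem _ hg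
    have hsq : g⁻¹ * C.emb y * g * (g⁻¹ * C.emb y * g) = 1 := by
      have : C.emb y * C.emb y = 1 := by
        rw [← map_mul, Cfsg.Agent.SmallSimple.Octahedral.y_involution.1, map_one]
      calc g⁻¹ * C.emb y * g * (g⁻¹ * C.emb y * g) = g⁻¹ * (C.emb y * C.emb y) * g := by group
        _ = 1 := by rw [this]; group
    rcases zpow_involution k hk (C.inj (by rw [map_mul, hk', hsq, map_one])) with h | h
    · exfalso
      rw [h, map_one, eq_comm] at hk'
      have : C.emb y = 1 := by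
        calc C.emb y = g * (g⁻¹ * C.emb y * g) * g⁻¹ := by group
          _ = 1 := by rw [hk']; group
      exact Cfsg.Agent.SmallSimple.Octahedral.y_involution.2.1 (C.inj (this.trans C.emb.map_one.symm))
    · rw [h] at hk'
      exact isConj_iff.2 ⟨g, by rw [hk']; group⟩
  obtain ⟨Q, hQ⟩ := (IsPGroup.of_card (n := 1) (p := 2) (G := Subgroup.zpowers w) (by
    rw [Nat.card_zpowers, pow_one, orderOf_eq_prime (by rw [pow_two, hw]) hw1])).exists_le_sylow
  obtain ⟨g, hg⟩ := MulAction.exists_smul_eq G Q P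
  have hwP : g * w * g⁻¹ ∈ (P : Subgroup G) := by
    rw [← hg]
    show g * w * g⁻¹ ∈ MulAut.conj g • (Q : Subgroup G)
    exact ⟨w, hQ (Subgroup.mem_zpowers w), rfl⟩
  rw [hP] at hwP
  obtain ⟨m, -, hm⟩ := hwP
  have hmm : m * m = 1 := C.inj (by
    rw [map_mul, hm, map_one]
    calc g * w * g⁻¹ * (g * w * g⁻¹) = g * (w * w) * g⁻¹ := by group
      _ = 1 := by rw [hw]; group)
  have hm1 : m ≠ 1 := fun h => hw1 (by
    rw [h, map_one] at hm
    calc w = g⁻¹ * (g * w * g⁻¹) * g := by group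
      _ = 1 := by rw [← hm]; group)
  have hconj : IsConj (C.emb m) w := isConj_iff.2 ⟨g⁻¹, by rw [hm]; group⟩
  refine IsConj.trans ?_ hconj
  by_cases h4 : m = x ^ 4
  · rw [h4]
  · obtain ⟨a, rfl⟩ := Cfsg.Agent.SmallSimple.Octahedral.conj_involution m hmm hm1 h4
    exact hy.trans (isConj_iff.2 ⟨C.emb a, by rw [map_mul, map_mul, map_inv]⟩)

theorem isSimpleGroup [Finite G] (C : Ctx G) (hO : Cfsg.pResidual 2 G = ⊤) : IsSimpleGroup G := by
  haveI : Fact (Nat.Prime 2) := ⟨Nat.prime_two⟩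
  haveI : Nontrivial G := ⟨⟨_, _, C.t_ne⟩⟩
  refine ⟨fun N hN => or_iff_not_imp_left.2 fun hN0 => ?_⟩
  -- the involution lies in `N`
  have hev : ∃ w ∈ N, w * w = 1 ∧ w ≠ 1 := by
    by_contra hodd
    have hno : ∀ w ∈ N, w * w = 1 → w = 1 := fun w hw hww => by
      by_contra h
      exact hodd ⟨w, hw, hww, h⟩
    have key : ∀ w : G, w * w = 1 → w ≠ 1 → ∀ n ∈ N, n * w = w * n → n = 1 := by
      intro w hw hw1 n hn hnw
      obtain ⟨g, hg⟩ := isConj_iff.1 (C.involution_conj hO w hw hw1)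
      obtain ⟨m, hm⟩ := C.range (g⁻¹ * n * g) (by
        rw [← hg] at hnw
        calc g⁻¹ * n * g * C.emb (x ^ 4) = g⁻¹ * (n * (g * C.emb (x ^ 4) * g⁻¹)) * g := by group
          _ = C.emb (x ^ 4) * (g⁻¹ * n * g) := by rw [hnw]; group)
      have hmK : m ∈ N.comap C.emb := by
        show C.emb m ∈ N
        rw [hm]
        simpa using hN.conj_mem n hn g⁻¹
      have hKn : (N.comap C.emb).Normal := hN.comap _
      have hKo : ∀ k ∈ N.comap C.emb, k * k = 1 → k = 1 := fun k hk hkk =>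
        C.inj ((hno _ hk (by rw [← map_mul, hkk, map_one])).trans C.emb.map_one.symm)
      by_contra hne
      have hm1 : m ≠ 1 := fun h => hne (by
        rw [h, map_one] at hm
        calc n = g * (g⁻¹ * n * g) * g⁻¹ := by group
          _ = 1 := by rw [← hm]; group)
      have hsq : ∀ (k : M) (i : ℕ), k ∈ N.comap C.emb → k ^ i ≠ 1 → k ^ (2 * i) = 1 → False := fun k i hk h1 h2 =>
        h1 (hKo _ (pow_mem hk i) (by rw [← pow_add, ← two_mul, h2]))
      rcases normal_involution m hm1 with h | h | h | h | ⟨a, h⟩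
      · exact hm1 (hKo m hmK h)
      · exact hsq m 2 hmK h.1 h.2
      · exact hsq m 3 hmK h.1 h.2
      · exact hsq m 4 hmK h.1 h.2
      · exact hsq _ 2 (mul_mem hmK (hKn.conj_mem m hmK a)) h.1 h.2
    have hinv : ∀ w : G, w * w = 1 → w ≠ 1 → ∀ n ∈ N, w * n * w⁻¹ = n⁻¹ := by
      intro w hw hw1 n hn
      let φ : ↥N →* ↥N := (MulAut.conjNormal w).toMonoidHom
      have hval : ∀ z : ↥N, (φ z : G) = w * z * w⁻¹ := fun z => MulAut.conjNormal_apply w z
      have hfix : MonoidHom.FixedPointFree φ := by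
        intro z hz
        have := congrArg Subtype.val hz
        rw [hval] at this
        refine Subtype.ext (key w hw hw1 z z.2 ?_)
        calc (z : G) * w = w * z * w⁻¹ * w := by rw [this]
          _ = w * z := by group
      have h2 : Function.Involutive φ := fun z => Subtype.ext (by
        rw [hval, hval]
        calc w * (w * z * w⁻¹) * w⁻¹ = (w * w) * z * (w * w)⁻¹ := by group
          _ = z := by rw [hw]; group)
      have := congrArg Subtype.val (congrFun (hfix.coe_eq_inv_of_involutive h2) ⟨n, hn⟩)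
      rw [hval] at this
      exact this
    apply hN0
    rw [Subgroup.eq_bot_iff_forall]
    intro n hn
    have ht : C.emb (x ^ 4) * C.emb (x ^ 4) = 1 := C.t_sq
    have hy : C.emb y * C.emb y = 1 := by
      rw [← map_mul, Cfsg.Agent.SmallSimple.Octahedral.y_involution.1, map_one]
    have hy1 : C.emb y ≠ 1 := fun h => Cfsg.Agent.SmallSimple.Octahedral.y_involution.2.1 (C.inj (h.trans C.emb.map_one.symm))
    have hty : C.emb (x ^ 4 * y) * C.emb (x ^ 4 * y) = 1 := by
      rw [← map_mul, show (x ^ 4 * y : M) * (x ^ 4 * y) = 1 by decide +kernel, map_one]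
    have hty1 : C.emb (x ^ 4 * y) ≠ 1 := fun h => absurd (C.inj (h.trans C.emb.map_one.symm)) (by decide +kernel)
    refine key _ hty hty1 n hn ?_
    have h1 := hinv _ ht C.t_ne _ (inv_mem hn)
    have h2 := hinv _ hy hy1 n hn
    rw [inv_inv] at h1
    rw [map_mul]
    have h3 : C.emb (x ^ 4) * C.emb y * n * (C.emb (x ^ 4) * C.emb y)⁻¹ = n := by
      calc C.emb (x ^ 4) * C.emb y * n * (C.emb (x ^ 4) * C.emb y)⁻¹
          = C.emb (x ^ 4) * (C.emb y * n * (C.emb y)⁻¹) * (C.emb (x ^ 4))⁻¹ := by group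
        _ = n := by rw [h2, h1]
    exact (mul_inv_eq_iff_eq_mul.1 h3).symm
  obtain ⟨w, hwN, hw, hw1⟩ := hev
  have htN : C.emb (x ^ 4) ∈ N := by
    obtain ⟨g, hg⟩ := isConj_iff.1 (C.involution_conj hO w hw hw1)
    have := hN.conj_mem w hwN g⁻¹
    rw [← hg] at this
    simpa [mul_assoc] using this
  have hinvN : ∀ v : G, v * v = 1 → v ∈ N := fun v hv => by
    by_cases h : v = 1
    · rw [h]; exact one_mem _
    · obtain ⟨g, hg⟩ := isConj_iff.1 (C.involution_conj hO v hv h)
      rw [← hg]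
      exact hN.conj_mem _ htN g
  have hrange : C.emb.range ≤ N := by
    rintro _ ⟨m, rfl⟩
    have hs : ∀ a : M, C.emb (a * s * a⁻¹) ∈ N := fun a => by
      rw [map_mul, map_mul, map_inv]
      exact hN.conj_mem _ (hinvN _ (by rw [← map_mul, s_invol.1, map_one])) _
    obtain ⟨a, b, h | ⟨c, h⟩⟩ := gen_by_conj m
    · rw [h, map_mul]; exact mul_mem (hs a) (hs b)
    · rw [h, map_mul, map_mul]; exact mul_mem (mul_mem (hs a) (hs b)) (hs c)
  obtain ⟨P, hP⟩ := C.exists_sylow
  have hPN : (P : Subgroup G) ≤ N := by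
    rw [hP]
    exact (Subgroup.map_le_range _ _).trans hrange
  have hfr := Sylow.normalizer_sup_eq_top' P hPN
  rw [← top_le_iff, ← hfr, sup_le_iff]
  refine ⟨fun g hg => hrange ?_, le_rfl⟩
  -- the normaliser fixes the central involution
  have hmemP : C.emb (x ^ 4) ∈ (P : Subgroup G) := by
    rw [hP]; exact Subgroup.mem_map_of_mem _ (pow_mem (show x ∈ Cfsg.Agent.Recog.GL23.S from Or.inl rfl) 4)
  have hmem2 : g * C.emb (x ^ 4) * g⁻¹ ∈ (P : Subgroup G) := (Subgroup.mem_normalizer_iff.1 hg _).1 hmemP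
  rw [hP] at hmem2
  obtain ⟨m, hmS, hm⟩ := hmem2
  have hc : ∀ k : M, C.emb k ∈ (P : Subgroup G) → m * k = k * m := fun k hk => C.inj (by
    rw [map_mul, map_mul, hm]
    exact centralP C P hP g hg _ hk)
  have hm4 : m = x ^ 4 := by
    rcases Cfsg.Agent.SmallSimple.Octahedral.two_group_involution m
      (hc x (hP ▸ Subgroup.mem_map_of_mem _ (Or.inl rfl)))
      (hc y (hP ▸ Subgroup.mem_map_of_mem _ (Or.inr (by decide +kernel))))
      (C.inj (by
        rw [map_mul, hm, map_one]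
        calc g * C.emb (x ^ 4) * g⁻¹ * (g * C.emb (x ^ 4) * g⁻¹) = g * (C.emb (x ^ 4) * C.emb (x ^ 4)) * g⁻¹ := by group
          _ = 1 := by rw [C.t_sq]; group)) with h | h
    · exfalso
      rw [h, map_one] at hm
      refine C.t_ne ?_
      calc C.emb (x ^ 4) = g⁻¹ * (g * C.emb (x ^ 4) * g⁻¹) * g := by group
        _ = 1 := by rw [← hm]; group
    · exact h
  obtain ⟨m', hm'⟩ := C.range g (by rw [hm4] at hm; exact (mul_inv_eq_iff_eq_mul.1 hm.symm))
  exact ⟨m', hm'⟩

end Ctx
end Cfsg.Agent.Recog.CentGL23
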