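import Mathlib
import Cfsg.Agent.Lib.Recog.CentGL23.Simple
import Cfsg.Agent.Lib.Recog.CentGL23.Orbit
import Cfsg.Agent.Lib.Recog.CentGL23.DataThree
import Cfsg.Agent.Lib.SmallSimple.Basic
import Cfsg.Agent.Lib.Invol.IndexTwo

/-!
# The three-local structure of a simple group of order 5616 with an involution centralizer `GL(2,3)`
-/

set_option autoImplicit false

namespace Cfsg.Agent.Recog.CentGL23

open Cfsg.Agent.Recog.GL23 (M x y)
open Cfsg.Agent.SmallSimple.Octahedral (x_pow_four_ne x_pow_eight x_pow_four_sq x_pow_four_central)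

variable {G : Type*} [Group G]

namespace Ctx

variable (C : Ctx G)

/-- The order-three element. -/
def U : G := C.emb u

/-- The central involution. -/
def T : G := C.emb (x ^ 4)

theorem U_pow : C.U ^ 3 = 1 := by rw [U, ← map_pow, u_pow.1, map_one]

theorem U_ne : C.U ≠ 1 := fun h => u_pow.2 (C.inj (h.trans C.emb.map_one.symm))

theorem U_T : C.U * C.T = C.T * C.U := by rw [U, T, ← map_mul, ← map_mul, x_pow_four_central]

variable (hI : ∀ w : G, w * w = 1 → w ≠ 1 → IsConj (C.emb (x ^ 4)) w)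

include hI

theorem local_data {w : G} (hw : w * w = 1) (hw1 : w ≠ 1) :
    ∃ g : G, ∀ a : G, a * w = w * a → ∃ m, C.emb m = g⁻¹ * a * g := by
  obtain ⟨g, hg⟩ := isConj_iff.1 (hI w hw hw1)
  refine ⟨g, fun a ha => C.range _ ?_⟩
  rw [← hg] at ha
  calc g⁻¹ * a * g * C.emb (x ^ 4) = g⁻¹ * (a * (g * C.emb (x ^ 4) * g⁻¹)) * g := by group
    _ = C.emb (x ^ 4) * (g⁻¹ * a * g) := by rw [ha]; group

theorem pow_three_of_commute {w a : G} (hw : w * w = 1) (hw1 : w ≠ 1) (ha : a * w = w * a)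
    (h : a ^ 351 = 1) : a ^ 3 = 1 := by
  obtain ⟨g, hg⟩ := C.local_data hI hw hw1
  obtain ⟨m, hm⟩ := hg a ha
  have hp : ∀ n : ℕ, C.emb (m ^ n) = g⁻¹ * a ^ n * g := fun n => by
    rw [map_pow, hm]
    simpa using (conj_pow (a := g⁻¹) (b := a) (i := n))
  have h3 := pow_odd m (C.inj (by rw [hp, h, map_one]; group))
  have := hp 3
  rw [h3, map_one] at this
  calc a ^ 3 = g * (g⁻¹ * a ^ 3 * g) * g⁻¹ := by group
    _ = 1 := by rw [← this]; group

theorem cases_of_commute {w a b : G} (hw : w * w = 1) (hw1 : w ≠ 1) (ha : a * w = w * a) (hb : b * w = w * b)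
    (h1 : a ^ 3 = 1) (h2 : b ^ 3 = 1) (hab : a * b = b * a) (hb1 : b ≠ 1) : a = 1 ∨ a = b ∨ a = b⁻¹ := by
  obtain ⟨g, hg⟩ := C.local_data hI hw hw1
  obtain ⟨m, hm⟩ := hg a ha
  obtain ⟨n, hn⟩ := hg b hb
  have back : ∀ c d : G, g⁻¹ * c * g = g⁻¹ * d * g → c = d := fun c d h => mul_left_cancel (mul_right_cancel h)
  have hm3 : m ^ 3 = 1 := C.inj (by
    rw [map_pow, hm, map_one, show (g⁻¹ * a * g) ^ 3 = g⁻¹ * a ^ 3 * g by simp [pow_succ, mul_assoc], h1]
    group)
  have hn3 : n ^ 3 = 1 := C.inj (by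
    rw [map_pow, hn, map_one, show (g⁻¹ * b * g) ^ 3 = g⁻¹ * b ^ 3 * g by simp [pow_succ, mul_assoc], h2]
    group)
  have hmn : m * n = n * m := C.inj (by
    rw [map_mul, map_mul, hm, hn]
    calc g⁻¹ * a * g * (g⁻¹ * b * g) = g⁻¹ * (a * b) * g := by group
      _ = g⁻¹ * b * g * (g⁻¹ * a * g) := by rw [hab]; group)
  have hn1 : n ≠ 1 := fun h => hb1 (back _ _ (by rw [← hn, h, map_one]; group))
  rcases order_three_commute m n hm3 hn3 hmn hn1 with h | h | h <;> rw [h] at hm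
  · exact Or.inl (back _ _ (by rw [← hm, map_one]; group))
  · exact Or.inr (Or.inl (back _ _ (by rw [← hm, hn])))
  · exact Or.inr (Or.inr (back _ _ (by rw [← hm, map_inv, hn]; group)))

theorem conj_U {w a : G} (hw : w * w = 1) (hw1 : w ≠ 1) (ha : a * w = w * a) (h1 : a ^ 3 = 1) (ha1 : a ≠ 1) :
    IsConj C.U a := by
  obtain ⟨g, hg⟩ := C.local_data hI hw hw1
  obtain ⟨m, hm⟩ := hg a ha
  have hm3 : m ^ 3 = 1 := C.inj (by
    rw [map_pow, hm, map_one, show (g⁻¹ * a * g) ^ 3 = g⁻¹ * a ^ 3 * g by simp [pow_succ, mul_assoc], h1]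
    group)
  have hm1 : m ≠ 1 := fun h => ha1 (by
    rw [h, map_one] at hm
    calc a = g * (g⁻¹ * a * g) * g⁻¹ := by group
      _ = 1 := by rw [← hm]; group)
  obtain ⟨c, rfl⟩ := order_three_conj m hm3 hm1
  rw [map_mul, map_mul, map_inv] at hm
  refine isConj_iff.2 ⟨g * C.emb c, ?_⟩
  calc g * C.emb c * C.U * (g * C.emb c)⁻¹ = g * (C.emb c * C.emb u * (C.emb c)⁻¹) * g⁻¹ := by rw [U]; group
    _ = a := by rw [hm]; group

variable [Finite G] [IsSimpleGroup G]

theorem no_thirteen (hG : Nat.card G = 5616) {q : G} (hq : q ^ 13 = 1) (hq1 : q ≠ 1) :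
    q * C.U ≠ C.U * q := by
  intro hcomm
  haveI : Fact (Nat.Prime 13) := ⟨by norm_num⟩
  have hnc : ¬ IsMulCommutative G := SmallSimple.not_isMulCommutative (by rw [hG]; norm_num)
  have hord : orderOf q = 13 := orderOf_eq_prime hq hq1
  have hf : (Nat.card G).factorization 13 = 1 := by
    rw [hG, show 5616 = 432 * 13 by norm_num, Nat.factorization_mul (by norm_num) (by norm_num), Finsupp.add_apply,
      Nat.factorization_eq_zero_of_not_dvd (by norm_num : ¬ 13 ∣ 432), Nat.Prime.factorization_self (by norm_num)]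
  let Q : Sylow 13 G := Sylow.ofCard (Subgroup.zpowers q) (by rw [Nat.card_zpowers, hord, hf, pow_one])
  have hQ : (Q : Subgroup G) = Subgroup.zpowers q := rfl
  obtain ⟨e, he, he1, heq⟩ := SmallSimple.sylow_relIndex hnc Q ((Nat.card_zpowers q).trans hord)
  set Cq := Subgroup.centralizer ((Q : Subgroup G) : Set G) with hCq
  have hmemC : ∀ a : G, a ∈ Cq ↔ a * q = q * a := fun a => by
    rw [hCq, hQ, Subgroup.zpowers_eq_closure, Subgroup.centralizer_closure, Subgroup.mem_centralizer_singleton_iff]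
  have h39 : 39 ∣ Nat.card Cq := by
    refine Nat.Coprime.mul_dvd_of_dvd_of_dvd (by norm_num : Nat.Coprime 3 13) ?_ ?_
    · have := Subgroup.orderOf_dvd_natCard Cq ((hmemC C.U).2 hcomm.symm)
      rwa [orderOf_eq_prime C.U_pow C.U_ne] at this
    · have := Subgroup.orderOf_dvd_natCard Cq ((hmemC q).2 rfl)
      rwa [hord] at this
  have hodd : ¬ 2 ∣ Nat.card Cq := by
    intro h2
    haveI : Fact (Nat.Prime 2) := ⟨Nat.prime_two⟩
    obtain ⟨⟨w, hwC⟩, hw⟩ := exists_prime_orderOf_dvd_card' (G := Cq) 2 h2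
    rw [← Subgroup.orderOf_coe] at hw
    have hww : w * w = 1 := by rw [← pow_two, ← hw, pow_orderOf_eq_one]
    have hw1 : w ≠ 1 := fun h => by rw [show (↑(⟨w, hwC⟩ : Cq) : G) = w from rfl, h, orderOf_one] at hw; omega
    have h3 := C.pow_three_of_commute hI hww hw1 ((hmemC w).1 hwC).symm
      (by rw [show 351 = 13 * 27 by norm_num, pow_mul, hq, one_pow])
    have : 13 ∣ 3 := hord ▸ orderOf_dvd_of_pow_eq_one h3
    norm_num at this
  have hn := SmallSimple.card_sylow_mul Q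
  rw [hG, ← heq] at hn
  have hmod := card_sylow_modEq_one 13 G
  have hndvd : Nat.card (Sylow 13 G) ∣ 432 := by
    have h1 := Q.card_dvd_index
    have h2 := (Q : Subgroup G).card_mul_index
    rw [hQ, Nat.card_zpowers, hord, hG] at h2
    rw [hQ] at h1
    exact (show (Subgroup.zpowers q).index = 432 by omega) ▸ h1
  generalize Nat.card (Sylow 13 G) = n at hn hmod hndvd
  generalize Nat.card Cq = c at hn h39 hodd
  obtain ⟨d, rfl⟩ := h39
  have he12 : e ∈ Nat.divisors 12 := Nat.mem_divisors.2 ⟨he, by norm_num⟩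
  have hn432 : n ∈ Nat.divisors 432 := Nat.mem_divisors.2 ⟨hndvd, by norm_num⟩
  have hfin : ∀ n ∈ Nat.divisors 432, n % 13 = 1 → n = 1 ∨ n = 27 ∨ n = 144 := by decide +kernel
  rcases hfin n hn432 (by simpa [Nat.ModEq] using hmod) with rfl | rfl | rfl
  · have he' : e = 2 ∨ e = 3 ∨ e = 4 ∨ e = 6 ∨ e = 12 := by
      have hfin2 : ∀ e ∈ Nat.divisors 12, e = 1 ∨ e = 2 ∨ e = 3 ∨ e = 4 ∨ e = 6 ∨ e = 12 := by decide +kernel
      exact (hfin2 e he12).resolve_left he1
    rcases he' with rfl | rfl | rfl | rfl | rfl <;> omega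
  · have he' : e = 2 ∨ e = 3 ∨ e = 4 ∨ e = 6 ∨ e = 12 := by
      have hfin2 : ∀ e ∈ Nat.divisors 12, e = 1 ∨ e = 2 ∨ e = 3 ∨ e = 4 ∨ e = 6 ∨ e = 12 := by decide +kernel
      exact (hfin2 e he12).resolve_left he1
    rcases he' with rfl | rfl | rfl | rfl | rfl <;> omega
  · have he' : e = 2 ∨ e = 3 ∨ e = 4 ∨ e = 6 ∨ e = 12 := by
      have hfin2 : ∀ e ∈ Nat.divisors 12, e = 1 ∨ e = 2 ∨ e = 3 ∨ e = 4 ∨ e = 6 ∨ e = 12 := by decide +kernel
      exact (hfin2 e he12).resolve_left he1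
    rcases he' with rfl | rfl | rfl | rfl | rfl <;> omega

/-- A subgroup centralizing the order-three element and free of involutions is a small three-group. -/
theorem card_dvd_of_odd (hG : Nat.card G = 5616) (D : Subgroup G) (hD : ∀ d ∈ D, d * C.U = C.U * d)
    (hodd : ∀ w ∈ D, w * w = 1 → w = 1) : Nat.card D ∣ 27 := by
  have h2 : (Nat.card D).Coprime 2 := by
    refine (Nat.Prime.coprime_iff_not_dvd Nat.prime_two).2 ?_ |>.symm
    intro h
    haveI : Fact (Nat.Prime 2) := ⟨Nat.prime_two⟩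
    obtain ⟨⟨w, hwD⟩, hw⟩ := exists_prime_orderOf_dvd_card' (G := D) 2 h
    rw [← Subgroup.orderOf_coe] at hw
    have h1 := hodd w hwD (by rw [← pow_two, ← hw, pow_orderOf_eq_one])
    rw [show (↑(⟨w, hwD⟩ : D) : G) = w from rfl, h1, orderOf_one] at hw
    omega
  have h13 : (Nat.card D).Coprime 13 := by
    refine (Nat.Prime.coprime_iff_not_dvd (by norm_num : Nat.Prime 13)).2 ?_ |>.symm
    intro h
    haveI : Fact (Nat.Prime 13) := ⟨by norm_num⟩
    obtain ⟨⟨w, hwD⟩, hw⟩ := exists_prime_orderOf_dvd_card' (G := D) 13 h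
    rw [← Subgroup.orderOf_coe] at hw
    refine C.no_thirteen hI hG (q := w) (by rw [← hw, pow_orderOf_eq_one]) (fun h => ?_) (hD w hwD)
    rw [show (↑(⟨w, hwD⟩ : D) : G) = w from rfl, h, orderOf_one] at hw
    omega
  have hd : Nat.card D ∣ 27 * (2 ^ 4 * 13) := by
    have := Subgroup.card_subgroup_dvd_card D
    rwa [hG] at this
  exact ((h2.pow_right 4).mul_right h13).dvd_of_dvd_mul_right hd

omit hI [IsSimpleGroup G] in
theorem conj_inv_of_fixedPointFree (D : Subgroup G) {w : G} (hw : w * w = 1) (hn : ∀ d ∈ D, w * d * w⁻¹ ∈ D)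
    (hf : ∀ d ∈ D, d * w = w * d → d = 1) : ∀ d ∈ D, w * d * w⁻¹ = d⁻¹ := by
  intro d hd
  let φ : ↥D →* ↥D :=
    { toFun := fun z => ⟨w * z * w⁻¹, hn z z.2⟩
      map_one' := Subtype.ext (by simp)
      map_mul' := fun a b => Subtype.ext (by simp [mul_assoc]) }
  have hfix : MonoidHom.FixedPointFree φ := by
    intro z hz
    have hz' : w * (z : G) * w⁻¹ = z := congrArg Subtype.val hz
    exact Subtype.ext (hf z z.2 (mul_inv_eq_iff_eq_mul.1 hz').symm)
  have h2 : Function.Involutive φ := fun z => Subtype.ext (by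
    show w * (w * z * w⁻¹) * w⁻¹ = z
    calc w * (w * z * w⁻¹) * w⁻¹ = (w * w) * z * (w * w)⁻¹ := by group
      _ = z := by rw [hw]; group)
  exact congrArg Subtype.val (congrFun (hfix.coe_eq_inv_of_involutive h2) ⟨d, hd⟩)

theorem no_big (hG : Nat.card G = 5616) : ¬ 4 ∣ Nat.card (Subgroup.centralizer ({C.U} : Set G)) := by
  intro h4
  haveI : Fact (Nat.Prime 2) := ⟨Nat.prime_two⟩
  set CU := Subgroup.centralizer ({C.U} : Set G) with hCU
  have ht : C.T ∈ CU := Subgroup.mem_centralizer_singleton_iff.2 C.U_T.symm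
  have ht2 : orderOf (⟨C.T, ht⟩ : CU) = 2 := orderOf_eq_prime
    (Subtype.ext (by rw [SubgroupClass.coe_pow, pow_two]; exact C.t_sq))
    (fun h => C.t_ne (congrArg Subtype.val h))
  obtain ⟨S, hS, hle⟩ := Sylow.exists_subgroup_card_pow_succ (p := 2) (n := 1)
    (by simpa using h4) (H := Subgroup.zpowers (⟨C.T, ht⟩ : CU)) (by rw [Nat.card_zpowers, ht2, pow_one])
  have hcomm := IsPGroup.commutative_of_card_eq_prime_sq (p := 2) (G := S) hS
  have hsub : ∀ s : S, (s : CU) = 1 ∨ (s : CU) = ⟨C.T, ht⟩ := by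
    intro s
    have hsU : ((s : CU) : G) * C.U = C.U * (s : CU) := Subgroup.mem_centralizer_singleton_iff.1 (s : CU).2
    have hst : ((s : CU) : G) * C.T = C.T * (s : CU) :=
      congrArg (fun z : S => ((z : CU) : G)) (hcomm s ⟨_, hle (Subgroup.mem_zpowers _)⟩)
    obtain ⟨m, hm⟩ := C.range _ hst
    have h4' : m ^ 4 = 1 := C.inj (by
      rw [map_pow, hm, map_one]
      have := pow_card_eq_one' (G := S) (x := s)
      rw [hS] at this
      simpa using congrArg (fun z : S => ((z : CU) : G)) this)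
    have hmu : m * u = u * m := C.inj (by rw [map_mul, map_mul, hm]; exact hsU)
    have hlist : ∀ m : M, m * u = u * m → m ^ 4 = 1 → m = 1 ∨ m = x ^ 4 := by
      intro m h1 h2
      rcases centralizer_u m h1 with rfl | rfl | rfl | rfl | rfl | rfl
      · exact Or.inl rfl
      · exact absurd h2 (by decide +kernel)
      · exact absurd h2 (by decide +kernel)
      · exact Or.inr rfl
      · exact absurd h2 (by decide +kernel)
      · exact absurd h2 (by decide +kernel)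
    rcases hlist m hmu h4' with h | h
    · exact Or.inl (Subtype.ext (by rw [← hm, h, map_one]; rfl))
    · exact Or.inr (Subtype.ext (by rw [← hm, h]; rfl))
  have : Nat.card S ≤ 2 := by
    classical
    haveI := Fintype.ofFinite S
    rw [Nat.card_eq_fintype_card, ← Fintype.card_bool]
    refine Fintype.card_le_of_injective (fun s => decide ((s : CU) = 1)) fun a b h => Subtype.ext ?_
    simp only [decide_eq_decide] at h
    rcases hsub a with ha | ha <;> rcases hsub b with hb | hb <;> rw [ha, hb] at h ⊢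
    · exact (h.1 rfl).symm
    · exact (h.2 rfl)
  rw [hS] at this
  norm_num at this

/-- An involution normalizing and inverting the order-three element fixes a new element of order three. -/
theorem exists_A (hG : Nat.card G = 5616) :
    ∃ σ A : G, σ * σ = 1 ∧ σ ≠ 1 ∧ σ * C.T = C.T * σ ∧ σ ≠ C.T ∧ σ * C.U * σ⁻¹ = C.U⁻¹ ∧
      A ^ 3 = 1 ∧ A ≠ 1 ∧ A * C.U = C.U * A ∧ A * σ = σ * A ∧ C.T * A * C.T⁻¹ = A⁻¹ := by
  haveI : Fact (Nat.Prime 2) := ⟨Nat.prime_two⟩
  haveI : Fact (Nat.Prime 3) := ⟨Nat.prime_three⟩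
  set CU := Subgroup.centralizer ({C.U} : Set G) with hCU
  have hmemCU : ∀ a : G, a ∈ CU ↔ a * C.U = C.U * a := fun a => Subgroup.mem_centralizer_singleton_iff
  have h9 : 9 ∣ Nat.card CU := by
    obtain ⟨W, hW, hle⟩ := Sylow.exists_subgroup_card_pow_succ (G := G) (p := 3) (n := 1) (by rw [hG]; norm_num)
      (H := Subgroup.zpowers C.U) (by rw [Nat.card_zpowers, orderOf_eq_prime C.U_pow C.U_ne, pow_one])
    have hc := IsPGroup.commutative_of_card_eq_prime_sq (p := 3) (G := W) hW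
    have hWC : W ≤ CU := fun a ha => (hmemCU a).2
      (congrArg Subtype.val (hc ⟨a, ha⟩ ⟨C.U, hle (Subgroup.mem_zpowers _)⟩))
    have := Subgroup.card_dvd_of_le hWC
    rwa [hW] at this
  have ht : C.T ∈ CU := (hmemCU _).2 C.U_T.symm
  have h2 : 2 ∣ Nat.card CU := by
    have := Subgroup.orderOf_dvd_natCard CU ht
    rwa [orderOf_eq_prime (show C.T ^ 2 = 1 by rw [pow_two]; exact C.t_sq) C.t_ne] at this
  obtain ⟨S⟩ : Nonempty (Sylow 2 CU) := inferInstance
  have hScard : Nat.card (S : Subgroup CU) = 2 := by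
    obtain ⟨n, hn⟩ := IsPGroup.iff_card.1 S.isPGroup'
    have h1 : 2 ∣ Nat.card (S : Subgroup CU) := by
      have := S.pow_dvd_card_of_pow_dvd_card (n := 1) (by simpa using h2)
      simpa using this
    have h3 : n ≤ 1 := by
      by_contra hlt
      exact C.no_big hI hG ((show 4 ∣ 2 ^ n from pow_dvd_pow 2 (show 2 ≤ n by omega)).trans
        (hn ▸ Subgroup.card_subgroup_dvd_card (S : Subgroup CU)))
    interval_cases n
    · rw [hn] at h1; norm_num at h1
    · exact hn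
  obtain ⟨K0, hK0⟩ := Invol.exists_index_two_of_cyclic_sylow (even_iff_two_dvd.2 h2) S
    (isCyclic_of_prime_card hScard)
  haveI := Subgroup.normal_of_index_eq_two hK0
  have hKodd : ¬ 2 ∣ Nat.card K0 := by
    intro h
    have h' := K0.card_mul_index
    rw [hK0] at h'
    exact C.no_big hI hG (h' ▸ mul_dvd_mul h (dvd_refl 2))
  have hK351 : Nat.card K0 ∣ 351 := by
    have h1 : Nat.card K0 ∣ 2 ^ 4 * 351 := by
      have h' := (Subgroup.card_subgroup_dvd_card K0).trans (Subgroup.card_subgroup_dvd_card CU)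
      rwa [hG] at h'
    exact (((Nat.Prime.coprime_iff_not_dvd Nat.prime_two).2 hKodd).symm.pow_right 4).dvd_of_dvd_mul_left h1
  set K : Subgroup G := K0.map CU.subtype with hK
  have hmemK : ∀ a : G, a ∈ K ↔ a * C.U = C.U * a ∧ a ^ 351 = 1 := by
    intro a
    constructor
    · rintro ⟨⟨a, ha⟩, hk, rfl⟩
      refine ⟨(hmemCU a).1 ha, ?_⟩
      obtain ⟨e, he⟩ := hK351
      have := pow_card_eq_one' (G := K0) (x := ⟨_, hk⟩)
      have h' : a ^ Nat.card K0 = 1 := congrArg (fun z : K0 => ((z : CU) : G)) this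
      show a ^ 351 = 1
      rw [he, pow_mul, h', one_pow]
    · rintro ⟨h1, h2⟩
      refine ⟨⟨a, (hmemCU a).2 h1⟩, ?_, rfl⟩
      set a' : CU := ⟨a, (hmemCU a).2 h1⟩
      have hsq : a' ^ 2 ∈ K0 := Subgroup.sq_mem_of_index_two hK0 a'
      have e : a' = (a' ^ 2) ^ 176 := by
        apply Subtype.ext
        show a = ((a' ^ 2) ^ 176 : CU)
        rw [SubgroupClass.coe_pow, SubgroupClass.coe_pow]
        show a = (a ^ 2) ^ 176
        rw [← pow_mul, show 2 * 176 = 351 + 1 by norm_num, pow_succ, h2, one_mul]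
      show a' ∈ K0
      rw [e]
      exact pow_mem hsq _
  have hKc : ∀ d ∈ K, d * C.U = C.U * d := fun d hd => ((hmemK d).1 hd).1
  have hK27 : Nat.card K ∣ 27 := C.card_dvd_of_odd hI hG K hKc fun w hw hww => by
    have h351 := ((hmemK w).1 hw).2
    rwa [show 351 = 2 * 175 + 1 by norm_num, pow_succ, pow_mul, pow_two, hww, one_pow, one_mul] at h351
  have hK3 : ∀ d ∈ K, ∀ w : G, w * w = 1 → w ≠ 1 → d * w = w * d → d ^ 3 = 1 := fun d hd w h1 h2 h3 =>
    C.pow_three_of_commute hI h1 h2 h3 ((hmemK d).1 hd).2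
  have hnorm : ∀ w : G, w * w = 1 → (w * C.U * w⁻¹ = C.U ∨ w * C.U * w⁻¹ = C.U⁻¹) →
      ∀ d ∈ K, w * d * w⁻¹ ∈ K := by
    intro w hw hU d hd
    obtain ⟨h1, h2⟩ := (hmemK d).1 hd
    refine (hmemK _).2 ⟨?_, by rw [conj_pow, h2, mul_one, mul_inv_cancel]⟩
    have h3 : (w * d * w⁻¹) * (w * C.U * w⁻¹) = (w * C.U * w⁻¹) * (w * d * w⁻¹) := by
      calc (w * d * w⁻¹) * (w * C.U * w⁻¹) = w * (d * C.U) * w⁻¹ := by group
        _ = _ := by rw [h1]; group
    rcases hU with e | e <;> rw [e] at h3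
    · exact h3
    · calc w * d * w⁻¹ * C.U = C.U * (C.U⁻¹ * (w * d * w⁻¹)) * C.U := by group
        _ = C.U * (w * d * w⁻¹) := by rw [← h3]; group
  have hcard9 : 9 ∣ Nat.card K := by
    have h' := K0.card_mul_index
    rw [hK0] at h'
    rw [hK, Subgroup.card_map_of_injective CU.subtype_injective]
    exact (by norm_num : Nat.Coprime 9 2).dvd_of_dvd_mul_right (h' ▸ h9)
  set S1 := C.emb s with hS1
  set S2 := C.T * C.emb s with hS2
  have hTs : C.T * C.emb s = C.emb s * C.T := by rw [T, ← map_mul, ← map_mul, x_pow_four_central]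
  have hs1 : S1 * S1 = 1 ∧ S1 ≠ 1 ∧ S1 ≠ C.T ∧ S1 * C.U * S1⁻¹ = C.U⁻¹ := by
    refine ⟨by rw [hS1, ← map_mul, s_invol.1, map_one],
      fun h => s_invol.2.1 (C.inj (h.trans C.emb.map_one.symm)), fun h => s_invol.2.2.1 (C.inj h), ?_⟩
    rw [hS1, U, ← map_inv, ← map_mul, ← map_mul, s_invol.2.2.2, map_inv]
  have hTT : C.T * C.T = 1 := C.t_sq
  have hTi : C.T⁻¹ = C.T := inv_eq_of_mul_eq_one_right hTT
  have hs2 : S2 * S2 = 1 ∧ S2 ≠ 1 ∧ S2 ≠ C.T ∧ S2 * C.U * S2⁻¹ = C.U⁻¹ := by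
    refine ⟨?_, ?_, ?_, ?_⟩
    · calc S2 * S2 = C.T * (C.emb s * C.T) * C.emb s := by rw [hS2]; group
        _ = (C.T * C.T) * (S1 * S1) := by rw [← hTs, hS1]; group
        _ = 1 := by rw [hTT, hs1.1, one_mul]
    · intro h
      exact hs1.2.2.1 (by rw [hS2] at h; rw [hS1, ← hTi]; exact eq_inv_of_mul_eq_one_right h)
    · intro h
      exact hs1.2.1 (mul_left_cancel (a := C.T) (by rw [mul_one]; exact h))
    · calc S2 * C.U * S2⁻¹ = C.T * (S1 * C.U * S1⁻¹) * C.T⁻¹ := by rw [hS2, hS1]; group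
        _ = C.U⁻¹ := by
          rw [hs1.2.2.2]
          calc C.T * C.U⁻¹ * C.T⁻¹ = (C.T * C.U * C.T⁻¹)⁻¹ := by group
            _ = C.U⁻¹ := by rw [← C.U_T]; group
  have hfix : ∃ σ, (σ = S1 ∨ σ = S2) ∧ ∃ A ∈ K, A ≠ 1 ∧ A * σ = σ * A := by
    by_contra hne
    have hf : ∀ σ, (σ = S1 ∨ σ = S2) → ∀ d ∈ K, d * σ = σ * d → d = 1 := fun σ hσ d hd hc => by
      by_contra h
      exact hne ⟨σ, hσ, d, hd, h, hc⟩
    have i1 := conj_inv_of_fixedPointFree K hs1.1 (hnorm S1 hs1.1 (Or.inr hs1.2.2.2)) (hf _ (Or.inl rfl))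
    have i2 := conj_inv_of_fixedPointFree K hs2.1 (hnorm S2 hs2.1 (Or.inr hs2.2.2.2)) (hf _ (Or.inr rfl))
    have hKT : ∀ d ∈ K, d = 1 ∨ d = C.U ∨ d = C.U⁻¹ := by
      intro d hd
      have h1 := i1 d hd
      have h2 := i2 d⁻¹ (inv_mem hd)
      rw [inv_inv] at h2
      have hc : C.T * d * C.T⁻¹ = d := by
        calc C.T * d * C.T⁻¹ = S2 * (S1⁻¹ * d * S1) * S2⁻¹ := by rw [hS2, hS1]; group
          _ = S2 * d⁻¹ * S2⁻¹ := by
            rw [show S1⁻¹ = S1 from inv_eq_of_mul_eq_one_right hs1.1]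
            nth_rewrite 2 [← show S1⁻¹ = S1 from inv_eq_of_mul_eq_one_right hs1.1]
            rw [h1]
          _ = d := h2
      have hdt : d * C.T = C.T * d := (mul_inv_eq_iff_eq_mul.1 hc).symm
      exact C.cases_of_commute hI hTT C.t_ne hdt C.U_T (hK3 d hd _ hTT C.t_ne hdt) C.U_pow (hKc d hd) C.U_ne
    have h3 : Nat.card K ≤ 3 := by
      classical
      haveI := Fintype.ofFinite G
      rw [Nat.card_eq_fintype_card]
      refine le_trans (le_of_eq ?_) (le_trans (Finset.card_le_card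
        (show (Finset.univ.filter fun d => d ∈ K) ⊆ {1, C.U, C.U⁻¹} from fun d hd => by
          rcases hKT d (Finset.mem_filter.1 hd).2 with h | h | h <;> simp [h])) Finset.card_le_three)
      exact Fintype.card_subtype _
    have := Nat.le_of_dvd Nat.card_pos hcard9
    omega
  obtain ⟨σ, hσ, A, hA, hA1, hAσ⟩ := hfix
  have hσs : σ * σ = 1 ∧ σ ≠ 1 ∧ σ ≠ C.T ∧ σ * C.U * σ⁻¹ = C.U⁻¹ := by rcases hσ with rfl | rfl <;> assumption
  have hσT : σ * C.T = C.T * σ := by
    rcases hσ with rfl | rfl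
    · exact hTs.symm
    · calc C.T * C.emb s * C.T = C.T * (C.emb s * C.T) := by group
        _ = C.T * (C.T * C.emb s) := by rw [hTs]
  have hA3 := hK3 A hA σ hσs.1 hσs.2.1 hAσ
  have hnU : A ≠ C.U ∧ A ≠ C.U⁻¹ := by
    have hnot : C.U * σ ≠ σ * C.U := fun h => by
      have h' := hσs.2.2.2
      rw [← h, mul_inv_cancel_right] at h'
      have : C.U * C.U = 1 := by nth_rewrite 1 [h']; group
      exact C.U_ne (by
        calc C.U = C.U ^ 3 * (C.U * C.U)⁻¹ := by group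
          _ = 1 := by rw [C.U_pow, this]; group)
    refine ⟨fun h => hnot (h ▸ hAσ), fun h => hnot ?_⟩
    rw [h] at hAσ
    exact (Commute.inv_left_iff.1 (show Commute C.U⁻¹ σ from hAσ)).eq
  refine ⟨σ, A, hσs.1, hσs.2.1, hσT, hσs.2.2.1, hσs.2.2.2, hA3, hA1, hKc A hA, hAσ, ?_⟩
  -- the central involution inverts the new element
  set K' := K ⊓ Subgroup.centralizer ({σ} : Set G) with hK'
  have hK'3 : ∀ d ∈ K', d ^ 3 = 1 := fun d hd =>
    hK3 d hd.1 σ hσs.1 hσs.2.1 (Subgroup.mem_centralizer_singleton_iff.1 hd.2)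
  have hTA : C.T * A * C.T⁻¹ ∈ K' := by
    refine ⟨hnorm C.T hTT (Or.inl (by rw [← C.U_T, mul_inv_cancel_right])) A hA, Subgroup.mem_centralizer_singleton_iff.2 ?_⟩
    calc C.T * A * C.T⁻¹ * σ = C.T * A * (C.T * σ) := by rw [hTi]; group
      _ = C.T * (A * σ) * C.T := by rw [← hσT]; group
      _ = (C.T * σ) * A * C.T := by rw [hAσ]; group
      _ = σ * (C.T * A * C.T⁻¹) := by rw [← hσT, hTi]; group
  have hAK' : A ∈ K' := ⟨hA, Subgroup.mem_centralizer_singleton_iff.2 hAσ⟩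
  -- two elements of order three centralizing an involution in a subgroup of exponent three
  obtain ⟨g, hg⟩ := C.local_data hI hσs.1 hσs.2.1
  have hemb : ∀ d ∈ K', ∃ m, C.emb m = g⁻¹ * d * g := fun d hd => hg d (Subgroup.mem_centralizer_singleton_iff.1 hd.2)
  obtain ⟨m, hm⟩ := hemb _ hTA
  obtain ⟨n, hn⟩ := hemb _ hAK'
  have h3 : ∀ (k : M) d, d ∈ K' → C.emb k = g⁻¹ * d * g → k ^ 3 = 1 := fun k d hd hk => C.inj (by
    rw [map_pow, hk, map_one, show (g⁻¹ * d * g) ^ 3 = g⁻¹ * d ^ 3 * g by simp [pow_succ, mul_assoc], hK'3 d hd]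
    group)
  rcases order_three_list n (h3 _ _ hAK' hn) (fun h => hA1 (by
      rw [h, map_one] at hn
      calc A = g * (g⁻¹ * A * g) * g⁻¹ := by group
        _ = 1 := by rw [← hn]; group)) m (h3 _ _ hTA hm)
    (h3 _ _ (mul_mem hTA hAK') (by rw [map_mul, hm, hn]; group))
    (h3 _ _ (mul_mem hTA (inv_mem hAK')) (by rw [map_mul, map_inv, hm, hn]; group)) with h | h | h <;> rw [h] at hm
  · exfalso
    rw [map_one] at hm
    exact hA1 (by
      calc A = C.T⁻¹ * (g * (g⁻¹ * (C.T * A * C.T⁻¹) * g) * g⁻¹) * C.T := by group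
        _ = 1 := by rw [← hm]; group)
  · exfalso
    have hTA' : C.T * A * C.T⁻¹ = A := mul_left_cancel (mul_right_cancel (hm.symm.trans hn))
    have hdt : A * C.T = C.T * A := (mul_inv_eq_iff_eq_mul.1 hTA').symm
    rcases C.cases_of_commute hI hTT C.t_ne hdt C.U_T hA3 C.U_pow (hKc A hA) C.U_ne with h | h | h
    · exact hA1 h
    · exact hnU.1 h
    · exact hnU.2 h
  · rw [map_inv, hn] at hm
    exact (mul_left_cancel (a := g⁻¹) (mul_right_cancel (b := g) (by rw [← hm]; group))).symm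

end Ctx
end Cfsg.Agent.Recog.CentGL23
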