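import Mathlib
import Cfsg.Agent.Lib.Recog.CentGL23.Three

/-!
# A subgroup of index thirteen normalizing an elementary abelian group of order nine
-/

set_option autoImplicit false

namespace Cfsg.Agent.Recog.CentGL23

open Cfsg.Agent.Recog.GL23 (M x y)

theorem z3_cases : ∀ k : ZMod 3, k = 0 ∨ k = 1 ∨ k = -1 := by decide +kernel

theorem z3_cases_two : ∀ k : ZMod 3, k = 0 ∨ k = 1 ∨ k = 1 + 1 := by decide +kernel

theorem z3_double : ∀ i : ZMod 3, i + i = 0 → i = 0 := by decide +kernel

theorem z3_half : ∀ k : ZMod 3, -k + -k = k := by decide +kernel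

theorem v2_triple : ∀ c : V2, c + c + c = 0 := by decide +kernel

theorem v2_double : ∀ c : V2, c + c = ((1 + 1) * c.1, (1 + 1) * c.2) := by decide +kernel

theorem v2_ne : ((0, 1) : V2) ≠ (1, 0) ∧ ((0, 1) : V2) ≠ -(1, 0) := by decide +kernel

theorem dvd_twentyseven : ∀ c ∈ Nat.divisors 27, 9 ∣ c → c ≠ 9 → c = 27 := by decide +kernel

theorem sylow_number : ∀ n ∈ Nat.divisors 104, n % 3 = 1 → n = 1 ∨ n = 4 ∨ n = 13 ∨ n = 52 := by decide +kernel

theorem dvd_thirtynine : ∀ c ∈ Nat.divisors 39, c % 3 = 0 → 8 * (18 * c) ≤ 729 → c = 3 := by decide +kernel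

variable {G : Type*} [Group G]

theorem pw_pair_inj_aux {U A T : G} (hU : U ^ 3 = 1) (hA : A ^ 3 = 1) (hA1 : A ≠ 1)
    (hT : T * U * T⁻¹ = U) (hTA : T * A * T⁻¹ = A⁻¹) (hU1 : U ≠ 1) :
    ∀ i j : ZMod 3, pw U i * pw A j = 1 → i = 0 ∧ j = 0 := by
  have hne : ∀ (a : G), a ^ 3 = 1 → a ≠ 1 → ∀ k : ZMod 3, pw a k = 1 → k = 0 := by
    intro a ha ha1 k hk
    rcases z3_cases k with rfl | rfl | rfl
    · rfl
    · rw [pw_one] at hk; exact absurd hk ha1
    · rw [pw_neg ha, pw_one, inv_eq_one] at hk; exact absurd hk ha1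
  intro i j h
  have h2 : pw U i * pw A (-j) = 1 := by
    have e : T * (pw U i * pw A j) * T⁻¹ = (T * pw U i * T⁻¹) * (T * pw A j * T⁻¹) := by group
    rw [h, pw_conj, pw_conj, hT, hTA] at e
    rw [pw_neg hA, show (pw A j)⁻¹ = pw A⁻¹ j by simp [pw, inv_pow]]
    simpa using e.symm
  have h4 : pw A j = pw A (-j) := mul_left_cancel (h.trans h2.symm)
  have h5 : pw A (j + j) = 1 := by
    rw [pw_add hA]
    nth_rewrite 2 [h4]
    rw [← pw_add hA, add_neg_cancel, pw_zero]
  have hj := z3_double j (hne A hA hA1 _ h5)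
  subst hj
  rw [pw_zero, mul_one] at h
  exact ⟨hne U hU hU1 i h, rfl⟩

namespace Ctx

variable (C : Ctx G) (hI : ∀ w : G, w * w = 1 → w ≠ 1 → IsConj (C.emb (x ^ 4)) w)
  [Finite G] [IsSimpleGroup G]

include hI

set_option maxHeartbeats 1000000 in
theorem exists_point_stabilizer (hG : Nat.card G = 5616) :
    ∃ H E : Subgroup G, E ≤ H ∧ (∀ h ∈ H, ∀ e ∈ E, h * e * h⁻¹ ∈ E) ∧ Nat.card E = 9 ∧
      (∀ a ∈ E, ∀ b ∈ E, a * b = b * a) ∧ H.index = 13 ∧
      ∀ a ∈ E, a ≠ 1 → ∀ b ∈ E, b ≠ 1 → ∃ h ∈ H, h * a * h⁻¹ = b := by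
  classical
  haveI : Fact (Nat.Prime 3) := ⟨Nat.prime_three⟩
  haveI := Fintype.ofFinite G
  obtain ⟨σ, A, hσσ, hσ1, hσT, hσne, hσU, hA3, hA1, hAU, hAσ, hTA⟩ := C.exists_A hI hG
  set U := C.U with hUdef
  set T := C.T with hTdef
  have hU3 : U ^ 3 = 1 := C.U_pow
  have hU1 : U ≠ 1 := C.U_ne
  have hTT : T * T = 1 := C.t_sq
  have hT1 : T ≠ 1 := C.t_ne
  have hTi : T⁻¹ = T := inv_eq_of_mul_eq_one_right hTT
  have hσi : σ⁻¹ = σ := inv_eq_of_mul_eq_one_right hσσ
  have hTU : T * U * T⁻¹ = U := by rw [← C.U_T, mul_inv_cancel_right]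
  have hσA : σ * A * σ⁻¹ = A := by rw [← hAσ, mul_inv_cancel_right]
  -- the subgroup of order nine
  set φ : V2 → G := fun e => pw U e.1 * pw A e.2 with hφ
  have hφadd : ∀ d e, φ (d + e) = φ d * φ e := fun d e => by
    simp only [hφ, Prod.fst_add, Prod.snd_add, pw_add hU3, pw_add hA3]
    rw [mul_assoc, ← mul_assoc (pw U e.1), pw_commute hAU.symm e.1 d.2]
    simp only [mul_assoc]
  have hφ0 : φ 0 = 1 := by simp [hφ, pw_zero]
  have hφneg : ∀ e, φ (-e) = (φ e)⁻¹ := fun e => eq_inv_of_mul_eq_one_left (by rw [← hφadd, neg_add_cancel, hφ0])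
  have hφinj : Function.Injective φ := fun d e h => by
    have h' : φ (d - e) = 1 := by rw [sub_eq_add_neg, hφadd, hφneg, h, mul_inv_cancel]
    obtain ⟨h1, h2⟩ := pw_pair_inj_aux hU3 hA3 hA1 hTU hTA hU1 _ _ h'
    exact sub_eq_zero.1 (Prod.ext h1 h2)
  let E : Subgroup G :=
    { carrier := Set.range φ
      one_mem' := ⟨0, hφ0⟩
      mul_mem' := by rintro _ _ ⟨d, rfl⟩ ⟨e, rfl⟩; exact ⟨d + e, hφadd d e⟩
      inv_mem' := by rintro _ ⟨d, rfl⟩; exact ⟨-d, hφneg d⟩ }
  have hEcard : Nat.card E = 9 := by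
    rw [show Nat.card E = Nat.card (Set.range φ) from rfl, Nat.card_range_of_injective hφinj, Nat.card_eq_fintype_card]
    rfl
  have hφ10 : φ (1, 0) = U := by simp [hφ, pw_one, pw_zero]
  have hφ01 : φ (0, 1) = A := by simp [hφ, pw_one, pw_zero]
  have hUE : U ∈ E := ⟨(1, 0), hφ10⟩
  have hAE : A ∈ E := ⟨(0, 1), hφ01⟩
  have hEab : ∀ a ∈ E, ∀ b ∈ E, a * b = b * a := by
    rintro _ ⟨d, rfl⟩ _ ⟨e, rfl⟩
    rw [← hφadd, ← hφadd, add_comm]
  have hφconj : ∀ (h : G) (v w : V2), h * U * h⁻¹ = φ v → h * A * h⁻¹ = φ w → ∀ e, h * φ e * h⁻¹ = φ (lin v w e) := by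
    intro h v w hv hw e
    have hpow : ∀ (c : V2) (k : ZMod 3), pw (φ c) k = φ (k * c.1, k * c.2) := by
      intro c k
      rcases z3_cases_two k with rfl | rfl | rfl
      · rw [pw_zero, zero_mul, zero_mul, ← hφ0]; rfl
      · rw [pw_one, one_mul, one_mul]
      · have hc : φ c ^ 3 = 1 := by
          rw [pow_succ, pow_two, ← hφadd, ← hφadd, ← hφ0]
          rw [v2_triple]
        rw [pw_add hc, pw_one, ← hφadd, v2_double]
    calc h * φ e * h⁻¹ = (h * pw U e.1 * h⁻¹) * (h * pw A e.2 * h⁻¹) := by simp only [hφ]; group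
      _ = φ (lin v w e) := by rw [pw_conj, pw_conj, hv, hw, hpow, hpow, ← hφadd]; rfl
  -- the centralizer of `E`
  set D := Subgroup.centralizer ({U} : Set G) ⊓ Subgroup.centralizer ({A} : Set G) with hD
  have hmemD : ∀ d, d ∈ D ↔ d * U = U * d ∧ d * A = A * d := fun d => by
    rw [hD, Subgroup.mem_inf, Subgroup.mem_centralizer_singleton_iff, Subgroup.mem_centralizer_singleton_iff]
  have hnU : A ≠ U ∧ A ≠ U⁻¹ := by
    refine ⟨fun h => ?_, fun h => ?_⟩
    · exact absurd (hφinj (hφ01.trans (h.trans hφ10.symm))) v2_ne.1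
    · rw [← hφ10, ← hφneg] at h
      exact absurd (hφinj (hφ01.trans h)) v2_ne.2
  have hDodd : ∀ w ∈ D, w * w = 1 → w = 1 := by
    intro w hw hww
    by_contra h1
    obtain ⟨hwU, hwA⟩ := (hmemD w).1 hw
    rcases C.cases_of_commute hI hww h1 hwA.symm hwU.symm hA3 hU3 hAU hU1 with h | h | h
    · exact hA1 h
    · exact hnU.1 h
    · exact hnU.2 h
  have hED : E ≤ D := fun d hd => (hmemD d).2 ⟨hEab d hd U hUE, hEab d hd A hAE⟩
  have hD27 := C.card_dvd_of_odd hI hG D (fun d hd => ((hmemD d).1 hd).1) hDodd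
  have hconjA : IsConj U A := C.conj_U hI hσσ hσ1 hAσ hA3 hA1
  have hDE : D = E := by
    by_contra hne
    have hD27' : Nat.card D = 27 := by
      have h1 := Subgroup.card_dvd_of_le hED
      rw [hEcard] at h1
      have h2 : Nat.card D ≠ 9 := fun h => hne (Subgroup.eq_of_le_of_card_ge hED (by rw [hEcard, h])).symm
      exact dvd_twentyseven _ (Nat.mem_divisors.2 ⟨hD27, by norm_num⟩) h1 h2
    -- an abelian Sylow subgroup
    obtain ⟨p, hpD, hpE⟩ : ∃ p ∈ D, p ∉ E := by
      by_contra h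
      refine hne (le_antisymm (fun d hd => ?_) hED)
      by_contra hd'
      exact h ⟨d, hd, hd'⟩
    have hD351 : ∀ d ∈ D, d ^ 351 = 1 := by
      intro d hd
      have h := pow_card_eq_one' (G := D) (x := ⟨d, hd⟩)
      rw [hD27'] at h
      have h' : d ^ 27 = 1 := congrArg Subtype.val h
      rw [show 351 = 27 * 13 by norm_num, pow_mul, h', one_pow]
    have hDab : ∀ a ∈ D, ∀ b ∈ D, a * b = b * a := by
      -- the subgroup commuting with a further element is everything
      set L := D ⊓ Subgroup.centralizer ({p} : Set G) with hL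
      have hEL : E ≤ L := fun d hd => ⟨hED hd, Subgroup.mem_centralizer_singleton_iff.2 (by
        obtain ⟨i, rfl⟩ := hd
        obtain ⟨h1, h2⟩ := (hmemD p).1 hpD
        exact (((show Commute p U from h1).pow_right i.1.val).mul_right ((show Commute p A from h2).pow_right i.2.val)).symm.eq)⟩
      have hLD : L = D := by
        have h1 := Subgroup.card_dvd_of_le hEL
        rw [hEcard] at h1
        have h2 : Nat.card L ∣ 27 := hD27' ▸ Subgroup.card_dvd_of_le inf_le_left
        have h3 : Nat.card L ≠ 9 := fun h => hpE (by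
          rw [Subgroup.eq_of_le_of_card_ge hEL (by rw [hEcard, h])]
          exact ⟨hpD, Subgroup.mem_centralizer_singleton_iff.2 rfl⟩)
        exact Subgroup.eq_of_le_of_card_ge inf_le_left (by rw [hD27', dvd_twentyseven _ (Nat.mem_divisors.2 ⟨h2, by norm_num⟩) h1 h3])
      intro a ha b hb
      set L' := D ⊓ Subgroup.centralizer ({b} : Set G) with hL'
      have hEL' : E ≤ L' := fun d hd => ⟨hED hd, Subgroup.mem_centralizer_singleton_iff.2 (by
        obtain ⟨i, rfl⟩ := hd
        obtain ⟨h1, h2⟩ := (hmemD b).1 hb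
        exact (((show Commute b U from h1).pow_right i.1.val).mul_right ((show Commute b A from h2).pow_right i.2.val)).symm.eq)⟩
      have hpL' : p ∈ L' := ⟨hpD, Subgroup.mem_centralizer_singleton_iff.2
        (Subgroup.mem_centralizer_singleton_iff.1 (hLD.symm ▸ hb : b ∈ L).2).symm⟩
      have h1 := Subgroup.card_dvd_of_le hEL'
      rw [hEcard] at h1
      have h2 : Nat.card L' ∣ 27 := hD27' ▸ Subgroup.card_dvd_of_le inf_le_left
      have h3 : Nat.card L' ≠ 9 := fun h => hpE (by
        rw [Subgroup.eq_of_le_of_card_ge hEL' (by rw [hEcard, h])]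
        exact hpL')
      have := Subgroup.eq_of_le_of_card_ge (H := L') (K := D) inf_le_left
        (by rw [hD27', dvd_twentyseven _ (Nat.mem_divisors.2 ⟨h2, by norm_num⟩) h1 h3])
      exact Subgroup.mem_centralizer_singleton_iff.1 (this.symm ▸ ha : a ∈ L').2
    have hnormD : ∀ w, w * U * w⁻¹ ∈ E → w * A * w⁻¹ ∈ E → w * w = 1 → ∀ d ∈ D, w * d * w⁻¹ ∈ D := by
      intro w hwU hwA hww d hd
      have hback : ∀ c ∈ E, (w * c * w⁻¹) ∈ E := by
        rintro _ ⟨e, rfl⟩
        obtain ⟨v, hv⟩ := hwU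
        obtain ⟨z, hz⟩ := hwA
        exact ⟨_, (hφconj w v z hv.symm hz.symm e).symm⟩
      have key : ∀ c ∈ E, (w * d * w⁻¹) * c = c * (w * d * w⁻¹) := by
        intro c hc
        have h1 := hDab d hd _ (hED (hback c hc))
        have hwi : w⁻¹ = w := inv_eq_of_mul_eq_one_right hww
        calc w * d * w⁻¹ * c = w * (d * (w * c * w⁻¹)) * w := by rw [hwi]; simp [mul_assoc, hww]
          _ = w * ((w * c * w⁻¹) * d) * w := by rw [h1]
          _ = c * (w * d * w⁻¹) := by rw [hwi]; simp [← mul_assoc, hww]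
      exact (hmemD _).2 ⟨key U hUE, key A hAE⟩
    have hTn := hnormD T (by rw [hTU]; exact hUE) (by rw [hTA]; exact inv_mem hAE) hTT
    have hσn := hnormD σ (by rw [hσU]; exact inv_mem hUE) (by rw [hσA]; exact hAE) hσσ
    have hfix : ∀ (w : G), w * w = 1 → w ≠ 1 → ∀ d ∈ D, d * w = w * d → d ^ 3 = 1 := fun w h1 h2 d hd h3 =>
      C.pow_three_of_commute hI h1 h2 h3 (hD351 d hd)
    have hcases : ∀ (w : G), w * w = 1 → w ≠ 1 → ∀ a ∈ D, a * w = w * a → ∀ b ∈ D, b * w = w * b → b ≠ 1 →
        a = 1 ∨ a = b ∨ a = b⁻¹ := fun w h1 h2 a ha ha' b hb hb' hb1 =>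
      C.cases_of_commute hI h1 h2 ha' hb' (hfix w h1 h2 a ha ha') (hfix w h1 h2 b hb hb') (hDab a ha b hb) hb1
    have hUT : U * T = T * U := C.U_T
    obtain ⟨τ, hτ⟩ : ∃ τ, τ = σ * T := ⟨_, rfl⟩
    have hττ : τ * τ = 1 := by
      calc τ * τ = σ * (T * σ) * T := by rw [hτ]; group
        _ = (σ * σ) * (T * T) := by rw [← hσT]; group
        _ = 1 := by rw [hσσ, hTT, one_mul]
    have hτ1 : τ ≠ 1 := fun h => hσne (by rw [hτ] at h; rw [← hTi]; exact eq_inv_of_mul_eq_one_left h)
    have hτconj : ∀ z, τ * z * τ⁻¹ = σ * (T * z * T⁻¹) * σ⁻¹ := fun z => by rw [hτ]; group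
    obtain ⟨b, hbD, hb1, hbτ⟩ : ∃ b ∈ D, b ≠ 1 ∧ b * τ = τ * b := by
      by_contra hno
      have hinv := Ctx.conj_inv_of_fixedPointFree D hττ
        (fun d hd => by rw [hτconj]; exact hσn _ (hTn d hd))
        (fun d hd h => by by_contra h1; exact hno ⟨d, hd, h1, h⟩)
      set q := p * (T * p * T⁻¹)⁻¹ with hq
      have hqD : q ∈ D := mul_mem hpD (inv_mem (hTn p hpD))
      have hTq : T * q * T⁻¹ = q⁻¹ := by
        have : q⁻¹ = (T * p * T⁻¹) * p⁻¹ := by rw [hq]; group
        rw [this, hq]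
        calc T * (p * (T * p * T⁻¹)⁻¹) * T⁻¹ = (T * p * T⁻¹) * ((T * T) * p⁻¹ * (T * T)⁻¹) := by group
          _ = _ := by rw [hTT]; group
      have hσq : q * σ = σ * q := by
        have h := hinv q hqD
        rw [hτconj, hTq] at h
        have : σ * q * σ⁻¹ = q := by
          calc σ * q * σ⁻¹ = (σ * q⁻¹ * σ⁻¹)⁻¹ := by group
            _ = q := by rw [h, inv_inv]
        exact (mul_inv_eq_iff_eq_mul.1 this).symm
      have hk : ∃ k : ZMod 3, q = pw A k := by
        rcases hcases σ hσσ hσ1 q hqD hσq A (hED hAE) hAσ hA1 with h | h | h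
        · exact ⟨0, by rw [h, pw_zero]⟩
        · exact ⟨1, by rw [h, pw_one]⟩
        · exact ⟨-1, by rw [h, pw_neg hA3, pw_one]⟩
      obtain ⟨k, hk⟩ := hk
      set p' := p * pw A k with hp'
      have hp'D : p' ∈ D := mul_mem hpD (hED (pw_mem hAE k))
      have hp'T : p' * T = T * p' := by
        have h1 : p = pw A k * (T * p * T⁻¹) := by rw [← hk, hq]; group
        have hcomm : pw A k * p = p * pw A k := hDab _ (hED (pw_mem hAE k)) p hpD
        have : T * p' * T⁻¹ = p' := by
          calc T * p' * T⁻¹ = (T * p * T⁻¹) * (T * pw A k * T⁻¹) := by rw [hp']; group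
            _ = (pw A k)⁻¹ * p * (T * pw A k * T⁻¹) := by
              congr 1
              rw [eq_inv_mul_iff_mul_eq]; exact h1.symm
            _ = (pw A k)⁻¹ * p * (pw A k)⁻¹ := by rw [pw_conj, hTA]; simp [pw, inv_pow]
            _ = p' := by
              have h2 : (pw A k)⁻¹ * (pw A k)⁻¹ = pw A k := by
                rw [← pw_neg hA3, ← pw_add hA3]
                rw [z3_half]
              calc (pw A k)⁻¹ * p * (pw A k)⁻¹ = p * ((pw A k)⁻¹ * (pw A k)⁻¹) := by
                    rw [(show Commute (pw A k) p from hcomm).inv_left.eq]; group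
                _ = p' := by rw [h2]
        exact (mul_inv_eq_iff_eq_mul.1 this).symm
      refine hpE ?_
      have hp : p = p' * (pw A k)⁻¹ := by rw [hp']; group
      rw [hp]
      refine mul_mem ?_ (inv_mem (pw_mem hAE k))
      rcases hcases T hTT hT1 p' hp'D hp'T U (hED hUE) hUT hU1 with h | h | h <;> rw [h]
      · exact one_mem _
      · exact hUE
      · exact inv_mem hUE
    have hb3 := hfix τ hττ hτ1 b hbD hbτ
    have hbU : IsConj U b := C.conj_U hI hττ hτ1 hbτ hb3 hb1
    have hTb : T * b * T⁻¹ = b⁻¹ := by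
      have h1 : T * b * T⁻¹ * τ = τ * (T * b * T⁻¹) := by
        have : T * τ = τ * T := by
          calc T * τ = (T * σ) * T := by rw [hτ]; group
            _ = τ * T := by rw [← hσT, hτ]
        calc T * b * T⁻¹ * τ = T * b * (T * τ) := by rw [hTi]; group
          _ = T * (b * τ) * T := by rw [this]; group
          _ = (T * τ) * b * T := by rw [hbτ]; group
          _ = τ * (T * b * T⁻¹) := by rw [this, hTi]; group
      rcases hcases τ hττ hτ1 _ (hTn b hbD) h1 b hbD hbτ hb1 with h | h | h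
      · exfalso
        exact hb1 (by
          calc b = T⁻¹ * (T * b * T⁻¹) * T := by group
            _ = 1 := by rw [h]; group)
      · exfalso
        have hbT : b * T = T * b := (mul_inv_eq_iff_eq_mul.1 h).symm
        have hτU : τ * U * τ⁻¹ = U⁻¹ := by rw [hτconj, hTU, hσU]
        rcases hcases T hTT hT1 b hbD hbT U (hED hUE) hUT hU1 with h' | h' | h'
        · exact hb1 h'
        · have : τ * b * τ⁻¹ = b := by rw [← hbτ, mul_inv_cancel_right]
          rw [h', hτU] at this
          exact hU1 (by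
            calc U = U ^ 3 * (U * U)⁻¹ := by group
              _ = 1 := by rw [hU3, show U * U = 1 by nth_rewrite 1 [← this]; group]; group)
        · have : τ * b * τ⁻¹ = b := by rw [← hbτ, mul_inv_cancel_right]
          rw [h', show τ * U⁻¹ * τ⁻¹ = (τ * U * τ⁻¹)⁻¹ by group, hτU, inv_inv] at this
          exact hU1 (by
            calc U = U ^ 3 * (U * U)⁻¹ := by group
              _ = 1 := by rw [hU3, show U * U = 1 by nth_rewrite 2 [this]; group]; group)
      · exact h
    have hσb : σ * b * σ⁻¹ = b⁻¹ := by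
      have h : τ * b * τ⁻¹ = b := by rw [← hbτ, mul_inv_cancel_right]
      rw [hτconj, hTb] at h
      calc σ * b * σ⁻¹ = (σ * b⁻¹ * σ⁻¹)⁻¹ := by group
        _ = b⁻¹ := by rw [h]
    -- coordinates on the Sylow subgroup
    set ψ : V3 → G := fun e => φ (e.1, e.2.1) * pw b e.2.2 with hψ
    have hbφ : ∀ e k, pw b k * φ e = φ e * pw b k := fun e k =>
      hDab _ (pow_mem hbD _) _ (hED ⟨e, rfl⟩)
    have hψadd : ∀ d e, ψ (d + e) = ψ d * ψ e := fun d e => by
      simp only [hψ, Prod.fst_add, Prod.snd_add, ← Prod.mk_add_mk, hφadd, pw_add hb3]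
      rw [mul_assoc, ← mul_assoc (φ (e.1, e.2.1)), ← hbφ (e.1, e.2.1)]
      simp only [mul_assoc]
    have hψ0 : ψ 0 = 1 := by
      show φ (0, 0) * pw b 0 = 1
      rw [pw_zero, mul_one]; exact hφ0
    have hψneg : ∀ e, ψ (-e) = (ψ e)⁻¹ := fun e => eq_inv_of_mul_eq_one_left (by rw [← hψadd, neg_add_cancel, hψ0])
    have hψT : ∀ e : V3, T * ψ e * T⁻¹ = ψ (e.1, -e.2.1, -e.2.2) := fun e => by
      show T * (pw U e.1 * pw A e.2.1 * pw b e.2.2) * T⁻¹ = pw U e.1 * pw A (-e.2.1) * pw b (-e.2.2)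
      rw [show T * (pw U e.1 * pw A e.2.1 * pw b e.2.2) * T⁻¹ =
        (T * pw U e.1 * T⁻¹) * (T * pw A e.2.1 * T⁻¹) * (T * pw b e.2.2 * T⁻¹) by group, pw_conj, pw_conj, pw_conj,
        hTU, hTA, hTb, pw_neg hA3, pw_neg hb3]
      simp [pw, inv_pow]
    have hψσ : ∀ e : V3, σ * ψ e * σ⁻¹ = ψ (-e.1, e.2.1, -e.2.2) := fun e => by
      show σ * (pw U e.1 * pw A e.2.1 * pw b e.2.2) * σ⁻¹ = pw U (-e.1) * pw A e.2.1 * pw b (-e.2.2)
      rw [show σ * (pw U e.1 * pw A e.2.1 * pw b e.2.2) * σ⁻¹ =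
        (σ * pw U e.1 * σ⁻¹) * (σ * pw A e.2.1 * σ⁻¹) * (σ * pw b e.2.2 * σ⁻¹) by group, pw_conj, pw_conj, pw_conj,
        hσU, hσA, hσb, pw_neg hU3, pw_neg hb3]
      simp [pw, inv_pow]
    have hψD : ∀ e, ψ e ∈ D := fun e => mul_mem (hED ⟨_, rfl⟩) (pow_mem hbD _)
    have hψinj : Function.Injective ψ := by
      have hker : ∀ e : V3, ψ e = 1 → e = 0 := by
        rintro ⟨i, j, k⟩ he
        have h1 := hψT (i, j, k)
        rw [he, mul_one, mul_inv_cancel] at h1
        have h2 := hψadd (i, j, k) (i, -j, -k)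
        rw [he, ← h1, mul_one] at h2
        have hi : i = 0 := by
          have : ψ (i + i, 0, 0) = 1 := by rw [← h2]; simp
          have h3 : φ (i + i, 0) = 1 := by simpa [hψ, pw_zero] using this
          have h4 := congrArg Prod.fst (hφinj (h3.trans hφ0.symm))
          exact z3_double i h4
        subst hi
        have h1' := hψσ (0, j, k)
        rw [he, mul_one, mul_inv_cancel] at h1'
        have h2' := hψadd (0, j, k) (-0, j, -k)
        rw [he, ← h1', mul_one] at h2'
        have hj : j = 0 := by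
          have : ψ (0, j + j, 0) = 1 := by rw [← h2']; simp
          have h3 : φ (0, j + j) = 1 := by simpa [hψ, pw_zero] using this
          have h4 := congrArg Prod.snd (hφinj (h3.trans hφ0.symm))
          exact z3_double j h4
        subst hj
        have hk : pw b k = 1 := by
          have h0 : φ (0, 0) = 1 := hφ0
          simpa [hψ, h0] using he
        rcases z3_cases k with rfl | rfl | rfl
        · rfl
        · rw [pw_one] at hk; exact absurd hk hb1
        · rw [pw_neg hb3, pw_one, inv_eq_one] at hk; exact absurd hk hb1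
      intro d e h
      exact sub_eq_zero.1 (hker _ (by rw [sub_eq_add_neg, hψadd, hψneg, h, mul_inv_cancel]))
    have hψsurj : ∀ d ∈ D, ∃ e, ψ e = d := by
      intro d hd
      have hbij : Function.Bijective (fun e => (⟨ψ e, hψD e⟩ : D)) :=
        (Nat.bijective_iff_injective_and_card _).2 ⟨fun a b h => hψinj (congrArg Subtype.val h), by
          rw [hD27', Nat.card_eq_fintype_card]; rfl⟩
      obtain ⟨e, he⟩ := hbij.2 ⟨d, hd⟩
      exact ⟨e, congrArg Subtype.val he⟩
    -- fusion in the normaliser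
    have hf : (Nat.card G).factorization 3 = 3 := by
      rw [hG, show 5616 = 208 * 3 ^ 3 by norm_num, Nat.factorization_mul (by norm_num) (by norm_num), Finsupp.add_apply,
        Nat.factorization_eq_zero_of_not_dvd (by norm_num : ¬ 3 ∣ 208), Nat.Prime.factorization_pow Nat.prime_three,
        Finsupp.single_eq_same]
    let P : Sylow 3 G := Sylow.ofCard D (by rw [hD27', hf]; rfl)
    have hP : (P : Subgroup G) = D := rfl
    haveI : IsMulCommutative (P : Subgroup G) := ⟨⟨fun a b => Subtype.ext (hDab _ a.2 _ b.2)⟩⟩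
    set N := Subgroup.normalizer ((P : Subgroup G) : Set G) with hN
    have hmemN : ∀ n ∈ N, ∀ d ∈ D, n * d * n⁻¹ ∈ D := fun n hn d hd => (Subgroup.mem_normalizer_iff.1 hn d).1 hd
    have hinN : ∀ w, (∀ d ∈ D, w * d * w⁻¹ ∈ D) → w ∈ N := by
      intro w hw
      refine Subgroup.mem_normalizer_iff.2 fun d => ⟨fun hd => hw d hd, fun hd => ?_⟩
      have hinj : Function.Injective (fun z : D => (⟨w * z * w⁻¹, hw z z.2⟩ : D)) := fun a b h =>
        Subtype.ext (mul_left_cancel (mul_right_cancel (congrArg Subtype.val h)))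
      obtain ⟨z, hz⟩ := (Finite.injective_iff_surjective.1 hinj) ⟨w * d * w⁻¹, hd⟩
      have : (z : G) = d := mul_left_cancel (mul_right_cancel (congrArg Subtype.val hz))
      exact this ▸ z.2
    set O : Finset V3 := Finset.univ.filter fun e => ∃ n ∈ N, n * U * n⁻¹ = ψ e with hO
    have hmemO : ∀ e, e ∈ O ↔ ∃ n ∈ N, n * U * n⁻¹ = ψ e := fun e => by simp [hO]
    have hfuse : ∀ z, IsConj U z → z ∈ D → ∃ n ∈ N, n * U * n⁻¹ = z := by
      intro z hz hzD
      obtain ⟨g, hg⟩ := isConj_iff.1 hz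
      obtain ⟨n, hn, h⟩ := P.conj_eq_normalizer_conj_of_mem U g⁻¹ (hED hUE) (by rw [inv_inv, hg]; exact hzD)
      rw [inv_inv, hg] at h
      exact ⟨n⁻¹, inv_mem hn, by rw [h, inv_inv]⟩
    have hTN : T ∈ N := hinN T hTn
    have hσN : σ ∈ N := hinN σ hσn
    have hOT : ∀ e : V3, e ∈ O → (e.1, -e.2.1, -e.2.2) ∈ O := fun e he => by
      obtain ⟨n, hn, h⟩ := (hmemO e).1 he
      exact (hmemO _).2 ⟨T * n, mul_mem hTN hn, by rw [← hψT e, ← h]; group⟩
    have hOσ : ∀ e : V3, e ∈ O → (-e.1, e.2.1, -e.2.2) ∈ O := fun e he => by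
      obtain ⟨n, hn, h⟩ := (hmemO e).1 he
      exact (hmemO _).2 ⟨σ * n, mul_mem hσN hn, by rw [← hψσ e, ← h]; group⟩
    have hOneg : ∀ e : V3, e ∈ O → -e ∈ O := fun e he => by
      obtain ⟨n, hn, h⟩ := (hmemO e).1 he
      refine (hmemO _).2 ⟨n * σ, mul_mem hn hσN, ?_⟩
      calc n * σ * U * (n * σ)⁻¹ = n * (σ * U * σ⁻¹) * n⁻¹ := by group
        _ = (n * U * n⁻¹)⁻¹ := by rw [hσU]; group
        _ = ψ (-e) := by rw [h, hψneg]
    have hψU : ψ (1, 0, 0) = U := by simp [hψ, hφ10, pw_zero]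
    have hψA : ψ (0, 1, 0) = A := by simp [hψ, hφ01, pw_zero]
    have hψb : ψ (0, 0, 1) = b := by
      have h0 : φ (0, 0) = 1 := hφ0
      simp [hψ, h0, pw_one]
    have hOU : ((1, 0, 0) : V3) ∈ O := (hmemO _).2 (hψU ▸ ⟨1, one_mem _, by group⟩)
    have hOA : ((0, 1, 0) : V3) ∈ O := (hmemO _).2 (hψA ▸ hfuse A hconjA (hED hAE))
    have hOb : ((0, 0, 1) : V3) ∈ O := (hmemO _).2 (hψb ▸ hfuse b hbU hbD)
    have haxes : axes ⊆ O := by
      intro e he
      simp only [axes, Finset.mem_insert, Finset.mem_singleton] at he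
      rcases he with rfl | rfl | rfl | rfl | rfl | rfl
      · exact hOU
      · simpa using hOneg _ hOU
      · exact hOA
      · simpa using hOneg _ hOA
      · exact hOb
      · simpa using hOneg _ hOb
    -- the orbit has eight elements
    have hN8 : O.card = 8 := by
      have hOcard : O.card * Nat.card ↥(N ⊓ Subgroup.centralizer ({U} : Set G)) = Nat.card N := by
        have himg : (Finset.univ.filter fun n => n ∈ N).image (fun n => n * U * n⁻¹) = O.image ψ := by
          ext z
          simp only [Finset.mem_image, Finset.mem_filter, Finset.mem_univ, true_and, hmemO]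
          constructor
          · rintro ⟨n, hn, rfl⟩
            obtain ⟨e, he⟩ := hψsurj _ (hmemN n hn U (hED hUE))
            exact ⟨e, ⟨n, hn, he.symm⟩, he⟩
          · rintro ⟨e, ⟨n, hn, h⟩, rfl⟩
            exact ⟨n, hn, h⟩
        rw [Nat.card_eq_fintype_card (α := N), Fintype.card_subtype,
          Finset.card_eq_sum_card_image (fun n => n * U * n⁻¹), himg, Finset.sum_image hψinj.injOn]
        rw [← smul_eq_mul, ← Finset.sum_const]
        refine Finset.sum_congr rfl fun e he => ?_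
        obtain ⟨m, hm, hme⟩ := (hmemO e).1 he
        rw [Nat.card_eq_fintype_card, Fintype.card_subtype]
        refine Finset.card_nbij' (fun k => m * k) (fun k => m⁻¹ * k) (fun k hk => ?_) (fun k hk => ?_)
          (fun k _ => inv_mul_cancel_left m k) (fun k _ => mul_inv_cancel_left m k)
        · simp only [Finset.coe_filter, Set.mem_setOf_eq, Finset.mem_filter, Finset.mem_univ, true_and,
            Subgroup.mem_inf, Subgroup.mem_centralizer_singleton_iff] at hk ⊢
          refine ⟨mul_mem hm hk.1, ?_⟩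
          rw [← hme, show m * k * U * (m * k)⁻¹ = m * (k * U * k⁻¹) * m⁻¹ by group, hk.2, mul_inv_cancel_right]
        · simp only [Finset.coe_filter, Set.mem_setOf_eq, Finset.mem_filter, Finset.mem_univ, true_and,
            Subgroup.mem_inf, Subgroup.mem_centralizer_singleton_iff] at hk ⊢
          refine ⟨mul_mem (inv_mem hm) hk.1, ?_⟩
          have h' : k * U * k⁻¹ = m * U * m⁻¹ := hk.2.trans hme.symm
          calc m⁻¹ * k * U = m⁻¹ * (k * U * k⁻¹) * k := by group
            _ = U * (m⁻¹ * k) := by rw [h']; group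
      have h54 : 54 ∣ Nat.card ↥(N ⊓ Subgroup.centralizer ({U} : Set G)) := by
        refine (by norm_num : Nat.Coprime 27 2).mul_dvd_of_dvd_of_dvd ?_ ?_
        · rw [← hD27']
          exact Subgroup.card_dvd_of_le fun d hd => ⟨hinN d fun c hc => mul_mem (mul_mem hd hc) (inv_mem hd),
            Subgroup.mem_centralizer_singleton_iff.2 ((hmemD d).1 hd).1⟩
        · have := Subgroup.orderOf_dvd_natCard (N ⊓ Subgroup.centralizer ({U} : Set G))
            (show T ∈ N ⊓ Subgroup.centralizer ({U} : Set G) from ⟨hTN, Subgroup.mem_centralizer_singleton_iff.2 hUT.symm⟩)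
          rwa [orderOf_eq_prime (show T ^ 2 = 1 by rw [pow_two, hTT]) hT1] at this
      have hn := SmallSimple.card_sylow_mul P
      have hmod := card_sylow_modEq_one 3 G
      rw [hG] at hn
      have h6 : 6 ≤ O.card := card_axes ▸ Finset.card_le_card haxes
      obtain ⟨c, hc⟩ := h54
      rw [hc] at hOcard
      rw [← hN, ← hOcard] at hn
      generalize hncard : Nat.card (Sylow 3 G) = n at hn hmod
      have hn104 : n ∣ 104 := ⟨O.card * c, by nlinarith⟩
      have hfac : 5616 ∣ n.factorial := by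
        have hdvd := SmallSimple.card_dvd_factorial_sylow (G := G) (p := 3)
          (SmallSimple.not_isMulCommutative (by rw [hG]; norm_num)) (by rw [hG]; norm_num)
        rw [hG] at hdvd
        rwa [hncard] at hdvd
      rcases sylow_number n (Nat.mem_divisors.2 ⟨hn104, by norm_num⟩) (by simpa [Nat.ModEq] using hmod) with
        rfl | rfl | rfl | rfl
      · norm_num [Nat.factorial] at hfac
      · norm_num [Nat.factorial] at hfac
      · have hOc : O.card * c = 8 := by nlinarith
        rcases c with _ | _ | c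
        · omega
        · omega
        · nlinarith
      · have hOc : O.card * c = 2 := by nlinarith
        rcases c with _ | c
        · omega
        · nlinarith
    -- the remaining two elements cannot exist
    obtain ⟨e, heO, heA⟩ := Finset.exists_mem_notMem_of_card_lt_card (by rw [card_axes, hN8]; norm_num : axes.card < O.card)
    have he0 : e ≠ 0 := by
      rintro rfl
      obtain ⟨m, -, hm⟩ := (hmemO 0).1 heO
      rw [hψ0] at hm
      exact hU1 (by
        calc U = m⁻¹ * (m * U * m⁻¹) * m := by group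
          _ = 1 := by rw [hm]; group)
    have hsub : axes ∪ signs e ⊆ O := by
      refine Finset.union_subset haxes fun z hz => ?_
      simp only [signs, Finset.mem_insert, Finset.mem_singleton] at hz
      have h1 := hOT e heO
      have h2 := hOσ e heO
      have h3 : (-e.1, -e.2.1, e.2.2) ∈ O := by simpa using hOσ _ h1
      rcases hz with rfl | rfl | rfl | rfl | rfl | rfl | rfl | rfl
      · exact heO
      · exact h1
      · exact h2
      · exact h3
      · exact hOneg _ heO
      · exact hOneg _ h1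
      · exact hOneg _ h2
      · exact hOneg _ h3
    have := Finset.card_le_card hsub
    have := signs_big e he0 heA
    omega
  -- the normaliser of `E`
  let H : Subgroup G :=
    { carrier := {h | ∀ e ∈ E, h * e * h⁻¹ ∈ E}
      one_mem' := fun e he => by simpa using he
      mul_mem' := fun {a b} ha hb e he => by
        rw [show a * b * e * (a * b)⁻¹ = a * (b * e * b⁻¹) * a⁻¹ by group]; exact ha _ (hb e he)
      inv_mem' := fun {a} ha e he => by
        have hinj : Function.Injective (fun z : E => (⟨a * z * a⁻¹, ha z z.2⟩ : E)) := fun p q h =>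
          Subtype.ext (mul_left_cancel (mul_right_cancel (congrArg Subtype.val h)))
        obtain ⟨z, hz⟩ := (Finite.injective_iff_surjective.1 hinj) ⟨e, he⟩
        have hz' : a * (z : G) * a⁻¹ = e := congrArg Subtype.val hz
        rw [← hz']
        simpa [mul_assoc] using z.2 }
  have hgenH : ∀ h : G, h * U * h⁻¹ ∈ E → h * A * h⁻¹ ∈ E → h ∈ H := by
    rintro h ⟨v, hv⟩ ⟨w, hw⟩ _ ⟨e, rfl⟩
    exact ⟨_, (hφconj h v w hv.symm hw.symm e).symm⟩
  have hEH : E ≤ H := fun h hh e he => mul_mem (mul_mem hh he) (inv_mem hh)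
  have hTH : T ∈ H := hgenH T (by rw [hTU]; exact hUE) (by rw [hTA]; exact inv_mem hAE)
  have hσH : σ ∈ H := hgenH σ (by rw [hσU]; exact inv_mem hUE) (by rw [hσA]; exact hAE)
  -- three-elements outside E
  have hext : ∀ a : G, (∀ e ∈ E, e * a = a * e) → 27 ∣ Nat.card (Subgroup.centralizer ({a} : Set G)) →
      ∃ g ∈ H, g ∉ E ∧ g * a = a * g ∧ g ^ 3 ∈ E ∧ 27 ∣ Nat.card H := by
    intro a ha h27
    set Ca := Subgroup.centralizer ({a} : Set G) with hCa
    have hEC : E ≤ Ca := fun e he => Subgroup.mem_centralizer_singleton_iff.2 (ha e he)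
    obtain ⟨W, hW, hle⟩ := Sylow.exists_subgroup_card_pow_succ (G := Ca) (p := 3) (n := 2) h27
      (H := E.subgroupOf Ca) (by rw [Nat.card_congr (Subgroup.subgroupOfEquivOfLe hEC).toEquiv, hEcard]; rfl)
    have hWn : (E.subgroupOf Ca).subgroupOf W |>.Normal := by
      refine Subgroup.normal_of_index_eq_minFac_card ?_
      rw [hW]
      have h := ((E.subgroupOf Ca).subgroupOf W).card_mul_index
      rw [Nat.card_congr (Subgroup.subgroupOfEquivOfLe hle).toEquiv,
        Nat.card_congr (Subgroup.subgroupOfEquivOfLe hEC).toEquiv, hEcard, hW] at h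
      rw [show (3 : ℕ) ^ (2 + 1) = 27 by norm_num] at h ⊢
      rw [show Nat.minFac 27 = 3 by norm_num]
      omega
    have hWH : W.map Ca.subtype ≤ H := by
      rintro _ ⟨g, hg, rfl⟩ e he
      exact hWn.conj_mem ⟨⟨e, hEC he⟩, hle (show (⟨e, hEC he⟩ : Ca) ∈ E.subgroupOf Ca from he)⟩ he ⟨g, hg⟩
    obtain ⟨⟨g, hgW⟩, hgE⟩ : ∃ g : W, ((g : Ca) : G) ∉ E := by
      by_contra h
      have hall : W ≤ E.subgroupOf Ca := fun g hg => Subgroup.mem_subgroupOf.2 (by
        by_contra hg'; exact h ⟨⟨g, hg⟩, hg'⟩)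
      have := Subgroup.card_dvd_of_le hall
      rw [hW, Nat.card_congr (Subgroup.subgroupOfEquivOfLe hEC).toEquiv, hEcard] at this
      norm_num at this
    refine ⟨g, hWH ⟨g, hgW, rfl⟩, hgE, Subgroup.mem_centralizer_singleton_iff.1 g.2, ?_, ?_⟩
    · have h := Subgroup.pow_index_mem (H := (E.subgroupOf Ca).subgroupOf W) ⟨g, hgW⟩
      have hi : ((E.subgroupOf Ca).subgroupOf W).index = 3 := by
        have h := ((E.subgroupOf Ca).subgroupOf W).card_mul_index
        rw [Nat.card_congr (Subgroup.subgroupOfEquivOfLe hle).toEquiv,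
          Nat.card_congr (Subgroup.subgroupOfEquivOfLe hEC).toEquiv, hEcard, hW] at h
        norm_num at h
        omega
      rw [hi] at h
      exact h
    · have := Subgroup.card_dvd_of_le hWH
      rwa [Subgroup.card_map_of_injective Ca.subtype_injective, hW] at this
  obtain ⟨g, hgH, hgE, -, hg3, h27H⟩ := hext 1 (fun e _ => by rw [mul_one, one_mul]) (by
    have : Subgroup.centralizer ({1} : Set G) = ⊤ := by
      ext z; simp [Subgroup.mem_centralizer_singleton_iff]
    rw [this, Subgroup.card_top, hG]; norm_num)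
  -- action on the coordinates
  have hact : ∀ h ∈ H, ∃ v w, h * U * h⁻¹ = φ v ∧ h * A * h⁻¹ = φ w := fun h hh => by
    obtain ⟨v, hv⟩ := hh U hUE
    obtain ⟨w, hw⟩ := hh A hAE
    exact ⟨v, w, hv.symm, hw.symm⟩
  have hmod : ∀ k ∈ H, k ∉ E → k ^ 3 ∈ E → ∀ v w, k * U * k⁻¹ = φ v → k * A * k⁻¹ = φ w →
      (∀ e, lin v w (lin v w (lin v w e)) = e) ∧ ¬ (v = (1, 0) ∧ w = (0, 1)) := by
    intro k hk hkE hk3 v w hv hw
    refine ⟨fun e => hφinj ?_, fun ⟨h1, h2⟩ => hkE ?_⟩
    · rw [← hφconj k v w hv hw, ← hφconj k v w hv hw, ← hφconj k v w hv hw]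
      calc k * (k * (k * φ e * k⁻¹) * k⁻¹) * k⁻¹ = k ^ 3 * φ e * (k ^ 3)⁻¹ := by simp [pow_succ, mul_assoc]
        _ = φ e := by rw [hEab _ hk3 _ ⟨e, rfl⟩, mul_inv_cancel_right]
    · rw [h1, hφ10] at hv
      rw [h2, hφ01] at hw
      rw [← hDE]
      exact (hmemD k).2 ⟨mul_inv_eq_iff_eq_mul.1 hv, mul_inv_eq_iff_eq_mul.1 hw⟩
  set R : Finset V2 := Finset.univ.filter fun e => ∃ h ∈ H, h * U * h⁻¹ = φ e with hR
  have hmemR : ∀ e, e ∈ R ↔ ∃ h ∈ H, h * U * h⁻¹ = φ e := fun e => by simp [hR]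
  have hR0 : ((1, 0) : V2) ∈ R := (hmemR _).2 ⟨1, one_mem _, by rw [hφ10]; group⟩
  have hstep : ∀ k ∈ H, ∀ v w, k * U * k⁻¹ = φ v → k * A * k⁻¹ = φ w → ∀ S, S ⊆ R → step v w S ⊆ R := by
    intro k hk v w hv hw S hS
    have one : ∀ (l : G), l ∈ H → ∀ (v w : V2), l * U * l⁻¹ = φ v → l * A * l⁻¹ = φ w → ∀ z ∈ S, lin v w z ∈ R := by
      intro l hl v w hv hw z hz
      obtain ⟨h, hh, hhz⟩ := (hmemR z).1 (hS hz)
      exact (hmemR _).2 ⟨l * h, mul_mem hl hh, by rw [← hφconj l v w hv hw z, ← hhz]; group⟩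
    intro z hz
    simp only [step, Finset.mem_union, Finset.mem_image] at hz
    rcases hz with ((hz | ⟨z, hz, rfl⟩) | ⟨z, hz, rfl⟩) | ⟨z, hz, rfl⟩
    · exact hS hz
    · exact one k hk v w hv hw z hz
    · have := one T hTH (1, 0) (0, -1) (by rw [hTU, hφ10])
        (by rw [hTA, ← hφ01, ← hφneg]; simp) z hz
      simpa [lin] using this
    · have := one σ hσH (-1, 0) (0, 1) (by rw [hσU, ← hφ10, ← hφneg]; simp) (by rw [hσA, hφ01]) z hz
      simpa [lin] using this
  have hRall : ∀ e : V2, e ≠ 0 → e ∈ R := by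
    have hR0' : ({(1, 0)} : Finset V2) ⊆ R := Finset.singleton_subset_iff.2 hR0
    obtain ⟨v, w, hv, hw⟩ := hact g hgH
    obtain ⟨hcube, hne⟩ := hmod g hgH hgE hg3 v w hv hw
    by_cases h1 : v ≠ (1, 0) ∧ w ≠ (0, 1)
    · intro e he
      have st := hstep g hgH v w hv hw
      exact st _ (st _ (st _ (st _ hR0'))) (reach_single v w hcube h1.1 h1.2 e he)
    · -- some element fixes one of the generators, so each is centralized by a Sylow subgroup
      have hz : ∃ z, (z = U ∨ z = A) ∧ 27 ∣ Nat.card (Subgroup.centralizer ({z} : Set G)) := by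
        have key : ∀ z, z ∈ E → g * z * g⁻¹ = z → 27 ∣ Nat.card (Subgroup.centralizer ({z} : Set G)) := by
          intro z hz hgz
          set Cz := Subgroup.centralizer ({z} : Set G)
          have hgC : g ∈ Cz := Subgroup.mem_centralizer_singleton_iff.2 (mul_inv_eq_iff_eq_mul.1 hgz)
          have hEC : E ≤ Cz := fun e he => Subgroup.mem_centralizer_singleton_iff.2 (hEab e he z hz)
          have hle : E ⊔ Subgroup.zpowers g ≤ Cz := sup_le hEC (Subgroup.zpowers_le.2 hgC)
          refine dvd_trans ?_ (Subgroup.card_dvd_of_le hle)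
          have hnorm : Subgroup.zpowers g ≤ Subgroup.normalizer (E : Set G) := Subgroup.zpowers_le.2 (by
            refine Subgroup.mem_normalizer_iff.2 fun d => ⟨hgH d, fun hd => ?_⟩
            have := (inv_mem hgH : g⁻¹ ∈ H) _ hd
            simpa [mul_assoc] using this)
          have hlt : E < E ⊔ Subgroup.zpowers g :=
            lt_of_le_of_ne le_sup_left fun h => hgE (h ▸ Subgroup.mem_sup_right (Subgroup.mem_zpowers g))
          have h9 := Subgroup.card_dvd_of_le (le_sup_left : E ≤ E ⊔ Subgroup.zpowers g)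
          rw [hEcard] at h9
          have hcardlt : 9 < Nat.card ↥(E ⊔ Subgroup.zpowers g) := by
            rw [← hEcard]
            by_contra hle'
            exact hlt.ne (Subgroup.eq_of_le_of_card_ge le_sup_left (by omega))
          have hg27 : g ^ 27 = 1 := by
            have h := pow_card_eq_one' (G := E) (x := ⟨g ^ 3, hg3⟩)
            rw [hEcard] at h
            rw [show 27 = 3 * 9 by norm_num, pow_mul]
            exact congrArg Subtype.val h
          have hdiv : Nat.card ↥(E ⊔ Subgroup.zpowers g) ∣ 9 * 27 := by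
            refine (Dvd.intro _ (Basics.card_mul_card_eq_card_sup_mul_card_inf (N := E) hnorm).symm).trans ?_
            rw [hEcard, Nat.card_zpowers]
            exact mul_dvd_mul_left 9 (orderOf_dvd_of_pow_eq_one hg27)
          obtain ⟨i, hi, hi'⟩ := (Nat.dvd_prime_pow Nat.prime_three).1 (show _ ∣ 3 ^ 5 from hdiv)
          rw [hi'] at hcardlt ⊢
          have : 3 ≤ i := by
            by_contra h
            have := Nat.pow_le_pow_right (show 0 < 3 by norm_num) (show i ≤ 2 by omega)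
            omega
          exact pow_dvd_pow 3 this
        rw [not_and_or, not_not, not_not] at h1
        rcases h1 with h | h
        · exact ⟨U, Or.inl rfl, key U hUE (by rw [hv, h, hφ10])⟩
        · exact ⟨A, Or.inr rfl, key A hAE (by rw [hw, h, hφ01])⟩
      have hcent : Nat.card (Subgroup.centralizer ({U} : Set G)) = Nat.card (Subgroup.centralizer ({A} : Set G)) := by
        obtain ⟨c, rfl⟩ := isConj_iff.1 hconjA
        refine Nat.card_congr ((MulAut.conj c).toEquiv.subtypeEquiv fun z => ?_)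
        show z ∈ Subgroup.centralizer ({U} : Set G) ↔ c * z * c⁻¹ ∈ Subgroup.centralizer ({c * U * c⁻¹} : Set G)
        rw [Subgroup.mem_centralizer_singleton_iff, Subgroup.mem_centralizer_singleton_iff]
        constructor <;> intro h
        · calc c * z * c⁻¹ * (c * U * c⁻¹) = c * (z * U) * c⁻¹ := by group
            _ = c * U * c⁻¹ * (c * z * c⁻¹) := by rw [h]; group
        · have h' : c * (z * U) * c⁻¹ = c * (U * z) * c⁻¹ := by
            calc c * (z * U) * c⁻¹ = c * z * c⁻¹ * (c * U * c⁻¹) := by group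
              _ = c * (U * z) * c⁻¹ := by rw [h]; group
          exact mul_left_cancel (mul_right_cancel h')
      have h27U : 27 ∣ Nat.card (Subgroup.centralizer ({U} : Set G)) := by
        obtain ⟨z, rfl | rfl, h⟩ := hz
        · exact h
        · exact hcent ▸ h
      obtain ⟨g1, hg1, hg1E, hg1U, hg13, -⟩ := hext U (fun e he => hEab e he U hUE) h27U
      obtain ⟨g2, hg2, hg2E, hg2A, hg23, -⟩ := hext A (fun e he => hEab e he A hAE) (hcent ▸ h27U)
      obtain ⟨v1, w1, hv1, hw1⟩ := hact g1 hg1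
      obtain ⟨v2, w2, hv2, hw2⟩ := hact g2 hg2
      obtain rfl : v1 = (1, 0) := hφinj (by rw [hφ10, ← hv1, hg1U, mul_inv_cancel_right])
      obtain rfl : w2 = (0, 1) := hφinj (by rw [hφ01, ← hw2, hg2A, mul_inv_cancel_right])
      obtain ⟨hc1, hn1⟩ := hmod g1 hg1 hg1E hg13 _ _ hv1 hw1
      obtain ⟨hc2, hn2⟩ := hmod g2 hg2 hg2E hg23 _ _ hv2 hw2
      intro e he
      have s1 := hstep g1 hg1 _ _ hv1 hw1
      have s2 := hstep g2 hg2 _ _ hv2 hw2
      exact s1 _ (s2 _ (s1 _ (s2 _ (s1 _ (s2 _ hR0')))))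
        (reach_pair w1 v2 (fun h => hn1 ⟨rfl, h⟩) (fun h => hn2 ⟨h, rfl⟩) hc1 hc2 e he)
  have htr : ∀ a ∈ E, a ≠ 1 → ∀ b ∈ E, b ≠ 1 → ∃ h ∈ H, h * a * h⁻¹ = b := by
    rintro _ ⟨d, rfl⟩ hd _ ⟨e, rfl⟩ he
    obtain ⟨h1, hh1, e1⟩ := (hmemR d).1 (hRall d fun h => hd (h ▸ hφ0))
    obtain ⟨h2, hh2, e2⟩ := (hmemR e).1 (hRall e fun h => he (h ▸ hφ0))
    exact ⟨h2 * h1⁻¹, mul_mem hh2 (inv_mem hh1), by rw [← e1, ← e2]; group⟩
  -- the order
  refine ⟨H, E, hEH, fun h hh e he => hh e he, hEcard, hEab, ?_, htr⟩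
  have hRcard : R.card = 8 := by
    rw [← card_nonzero]
    congr 1
    ext e
    simp only [Finset.mem_filter, Finset.mem_univ, true_and]
    refine ⟨fun he h => ?_, hRall e⟩
    obtain ⟨m, -, hm⟩ := (hmemR e).1 he
    rw [h, hφ0] at hm
    exact hU1 (by
      calc U = m⁻¹ * (m * U * m⁻¹) * m := by group
        _ = 1 := by rw [hm]; group)
  set St := H ⊓ Subgroup.centralizer ({U} : Set G) with hSt
  have hHcard : Nat.card H = 8 * Nat.card St := by
    rw [Nat.card_eq_fintype_card (α := H), Fintype.card_subtype,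
      Finset.card_eq_sum_card_image (fun h => h * U * h⁻¹),
      show (Finset.univ.filter fun h => h ∈ H).image (fun h => h * U * h⁻¹) = R.image φ by
        ext z
        simp only [Finset.mem_image, Finset.mem_filter, Finset.mem_univ, true_and, hmemR]
        constructor
        · rintro ⟨h, hh, rfl⟩
          obtain ⟨e, he⟩ := hh U hUE
          exact ⟨e, ⟨h, hh, he.symm⟩, he⟩
        · rintro ⟨e, ⟨h, hh, he⟩, rfl⟩
          exact ⟨h, hh, he⟩,
      Finset.sum_image hφinj.injOn, ← hRcard, ← smul_eq_mul, ← Finset.sum_const]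
    refine Finset.sum_congr rfl fun e he => ?_
    obtain ⟨m, hm, hme⟩ := (hmemR e).1 he
    rw [Nat.card_eq_fintype_card, Fintype.card_subtype]
    symm
    refine Finset.card_nbij' (fun k => m * k) (fun k => m⁻¹ * k) (fun k hk => ?_) (fun k hk => ?_)
      (fun k _ => inv_mul_cancel_left m k) (fun k _ => mul_inv_cancel_left m k)
    · simp only [Finset.coe_filter, Set.mem_setOf_eq, Finset.mem_filter, Finset.mem_univ, true_and, hSt,
        Subgroup.mem_inf, Subgroup.mem_centralizer_singleton_iff] at hk ⊢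
      refine ⟨mul_mem hm hk.1, ?_⟩
      rw [← hme, show m * k * U * (m * k)⁻¹ = m * (k * U * k⁻¹) * m⁻¹ by group, hk.2, mul_inv_cancel_right]
    · simp only [Finset.coe_filter, Set.mem_setOf_eq, Finset.mem_filter, Finset.mem_univ, true_and, hSt,
        Subgroup.mem_inf, Subgroup.mem_centralizer_singleton_iff] at hk ⊢
      refine ⟨mul_mem (inv_mem hm) hk.1, ?_⟩
      have h' : k * U * k⁻¹ = m * U * m⁻¹ := hk.2.trans hme.symm
      calc m⁻¹ * k * U = m⁻¹ * (k * U * k⁻¹) * k := by group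
        _ = U * (m⁻¹ * k) := by rw [h']; group
  have h18 : 18 ∣ Nat.card St := by
    refine (by norm_num : Nat.Coprime 9 2).mul_dvd_of_dvd_of_dvd ?_ ?_
    · rw [← hEcard]
      exact Subgroup.card_dvd_of_le fun e he => ⟨hEH he, Subgroup.mem_centralizer_singleton_iff.2 (hEab e he U hUE)⟩
    · have := Subgroup.orderOf_dvd_natCard St
        (show T ∈ St from ⟨hTH, Subgroup.mem_centralizer_singleton_iff.2 C.U_T.symm⟩)
      rwa [orderOf_eq_prime (show T ^ 2 = 1 by rw [pow_two, hTT]) hT1] at this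
  have h729 : Nat.card H ≤ 729 := by
    choose vv ww hvv hww using hact
    have hfib : Nat.card H ≤ 81 * 9 := by
      rw [Nat.card_eq_fintype_card, Fintype.card_subtype]
      have hb : ∀ p ∈ (Finset.univ : Finset (G × G)), ((Finset.univ.filter fun h => h ∈ H).filter
          fun h => (h * U * h⁻¹, h * A * h⁻¹) = p).card ≤ 9 := by
        intro p _
        rcases Finset.eq_empty_or_nonempty ((Finset.univ.filter fun h => h ∈ H).filter
          fun h => (h * U * h⁻¹, h * A * h⁻¹) = p) with h0 | ⟨h0, hh0⟩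
        · rw [h0]; simp
        · rw [← hEcard, Nat.card_eq_fintype_card, Fintype.card_subtype]
          refine Finset.card_le_card_of_injOn (fun h => h0⁻¹ * h) (fun h hh => ?_) (fun a _ b _ e => mul_left_cancel e)
          simp only [Finset.coe_filter, Finset.mem_filter, Finset.mem_univ, true_and, Set.mem_setOf_eq] at hh hh0 ⊢
          rw [← hDE]
          obtain ⟨e1, e2⟩ := Prod.mk.injEq _ _ _ _ ▸ (hh.2.trans hh0.2.symm)
          refine (hmemD _).2 ⟨?_, ?_⟩
          · calc h0⁻¹ * h * U = h0⁻¹ * (h * U * h⁻¹) * h := by group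
              _ = U * (h0⁻¹ * h) := by rw [e1]; group
          · calc h0⁻¹ * h * A = h0⁻¹ * (h * A * h⁻¹) * h := by group
              _ = A * (h0⁻¹ * h) := by rw [e2]; group
      refine (Finset.card_le_mul_card_image_of_maps_to (f := fun h => (h * U * h⁻¹, h * A * h⁻¹))
        (t := (Finset.univ.image φ) ×ˢ (Finset.univ.image φ)) (fun h hh => ?_) 9
        (fun p hp => hb p (Finset.mem_univ p))).trans ?_
      · have hh' := (Finset.mem_filter.1 hh).2
        simp only [Finset.mem_product, Finset.mem_image, Finset.mem_univ, true_and]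
        exact ⟨hh' U hUE, hh' A hAE⟩
      · rw [Finset.card_product, Finset.card_image_of_injective _ hφinj]
        decide +kernel
    omega
  obtain ⟨c, hc⟩ := h18
  have hmul := H.card_mul_index
  rw [hG, hHcard, hc] at hmul
  rw [hHcard, hc] at h729 h27H
  have hc3 : c % 3 = 0 := by omega
  have hcd : c ∣ 39 := ⟨H.index, by nlinarith⟩
  obtain rfl := dvd_thirtynine c (Nat.mem_divisors.2 ⟨hcd, by norm_num⟩) hc3 h729
  omega

end Ctx
end Cfsg.Agent.Recog.CentGL23
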