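import Mathlib
import Cfsg.Agent.Lib.FGB.L33Recognize
import Cfsg.Agent.Lib.LinearGroups.PSL
import Cfsg.Agent.S0675
import Cfsg.Agent.Lib.SmallSimple.Basic

/-!
# A simple group of order 5616 with a point stabilizer having an abelian normal subgroup of order nine
-/

set_option autoImplicit false

namespace Cfsg.Agent.Recog.CentGL23.Plane

open Cfsg.Agent.FGB.L33 (inc Obj meets colAut)

/-- Two translates of the four-point set meet in at most one point. -/
def good (a b : Fin 13) : Bool :=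
  let L : List (Fin 13) := [0, 1, a, b]
  L.all fun i => L.all fun j => i == j || (List.finRange 13).all fun k =>
    !(L.contains (i + k) && L.contains (j + k)) || L.all fun l => L.contains (l + k)

/-- An affine map carries the standard difference set to the four-point set. -/
def aff (a b : Fin 13) : Bool :=
  (List.finRange 13).any fun u => (List.finRange 13).any fun v => u != 0 &&
    (List.finRange 13).all fun d => inc d 0 == ([0, 1, a, b] : List (Fin 13)).contains (u * d + v)

theorem aff_of_good : ∀ a b : Fin 13, a ≠ 0 → a ≠ 1 → b ≠ 0 → b ≠ 1 → a ≠ b → good a b = true → aff a b = true := by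
  decide +kernel

theorem inc_translate : ∀ i l : Fin 13, inc i l = inc (i - l) 0 := by decide +kernel

theorem difference_set (a b : Fin 13) (h0 : a ≠ 0) (h1 : a ≠ 1) (h2 : b ≠ 0) (h3 : b ≠ 1) (h4 : a ≠ b)
    (h : ∀ i ∈ [0, 1, a, b], ∀ j ∈ [0, 1, a, b], i ≠ j → ∀ k : Fin 13,
      i + k ∈ [0, 1, a, b] → j + k ∈ [0, 1, a, b] → ∀ l ∈ [0, 1, a, b], l + k ∈ [0, 1, a, b]) :
    ∃ u v : Fin 13, u ≠ 0 ∧ ∀ i l : Fin 13, (inc i l = true ↔ u * i + v - u * l ∈ [0, 1, a, b]) := by
  have hg : good a b = true := by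
    simp only [good, List.all_eq_true, Bool.or_eq_true, beq_iff_eq, Bool.not_eq_true', Bool.and_eq_false_imp]
    intro i hi j hj
    by_cases hij : i = j
    · exact Or.inl hij
    · refine Or.inr fun k _ => ?_
      by_cases hc : i + k ∈ [0, 1, a, b] ∧ j + k ∈ [0, 1, a, b]
      · exact Or.inr fun l hl => List.contains_iff_mem.2 (h i hi j hj hij k hc.1 hc.2 l hl)
      · refine Or.inl fun hik => ?_
        rw [← Bool.not_eq_true, List.contains_iff_mem]
        exact fun hjk => hc ⟨List.contains_iff_mem.1 hik, hjk⟩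
  have ha := aff_of_good a b h0 h1 h2 h3 h4 hg
  simp only [aff, List.any_eq_true, Bool.and_eq_true, bne_iff_ne, List.all_eq_true, beq_iff_eq] at ha
  obtain ⟨u, -, v, -, hu, hd⟩ := ha
  refine ⟨u, v, hu, fun i l => ?_⟩
  rw [inc_translate, hd (i - l) (List.mem_finRange _), List.contains_iff_mem, mul_sub, sub_add_eq_add_sub]

theorem affine_bijective : ∀ u v : Fin 13, u ≠ 0 → ∀ i j : Fin 13, u * i + v = u * j + v → i = j := by
  decide +kernel

theorem line_exists : ∀ i j : Fin 13, ∃ l, inc i l = true ∧ inc j l = true := by decide +kernel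

theorem line_ext : ∀ l m : Fin 13, (∀ i, inc i l = inc i m) → l = m := by decide +kernel

theorem line_two : ∀ l : Fin 13, ∃ i j : Fin 13, i ≠ j ∧ inc i l = true ∧ inc j l = true := by decide +kernel

variable {G : Type*} [Group G] [Finite G] [IsSimpleGroup G]

theorem recognize (hG : Nat.card G = 5616) (H E : Subgroup G) (hEH : E ≤ H)
    (hn : ∀ h ∈ H, ∀ e ∈ E, h * e * h⁻¹ ∈ E) (hE : Nat.card E = 9) (hab : ∀ a ∈ E, ∀ b ∈ E, a * b = b * a)
    (hidx : H.index = 13) (htr : ∀ a ∈ E, a ≠ 1 → ∀ b ∈ E, b ≠ 1 → ∃ h ∈ H, h * a * h⁻¹ = b) :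
    Nonempty (G ≃* Matrix.ProjectiveSpecialLinearGroup (Fin 3) (ZMod 3)) := by
  classical
  haveI := Fintype.ofFinite G
  haveI := Fintype.ofFinite (G ⧸ H)
  have hX : Fintype.card (G ⧸ H) = 13 := by rw [← Nat.card_eq_fintype_card]; exact hidx
  have hne : H ≠ ⊤ := fun h => by rw [h, Subgroup.index_top] at hidx; omega
  have hker := SmallSimple.toPermHom_injective (G := G) hne
  set P0 : G ⧸ H := ((1 : G) : G ⧸ H) with hP0
  have hstab : ∀ h : G, h • P0 = P0 ↔ h ∈ H := fun h => by
    rw [← MulAction.mem_stabilizer_iff, MulAction.stabilizer_quotient]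
  have hfaith : ∀ g : G, (∀ R : G ⧸ H, g • R = R) → g = 1 := fun g hg =>
    hker ((Equiv.ext hg).trans (map_one _).symm)
  -- double transitivity
  have h2t : ∀ Q R : G ⧸ H, Q ≠ P0 → R ≠ P0 → ∃ h ∈ H, h • Q = R := by
    intro Q R hQ hR
    let ρ := MulAction.toPermHom G (G ⧸ H)
    haveI : MulAction.IsPretransitive ρ.range (G ⧸ H) := ⟨fun a b => by
      obtain ⟨g, hg⟩ := MulAction.exists_smul_eq G a b
      exact ⟨⟨ρ g, g, rfl⟩, hg⟩⟩
    rcases S0675.result (α := G ⧸ H) (by rw [hX]; norm_num) ρ.range with h | h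
    · exfalso
      have hs : Group.IsSolvable G :=
        solvable_of_solvable_injective (f := (MonoidHom.ofInjective hker).toMonoidHom) (MonoidHom.ofInjective hker).injective
      exact SmallSimple.not_isMulCommutative (G := G) (by rw [hG]; norm_num)
        ⟨⟨(IsSimpleGroup.comm_iff_isSolvable.2 hs)⟩⟩
    · obtain ⟨⟨_, g, rfl⟩, h1, h2⟩ := (MulAction.is_two_pretransitive_iff (G := ρ.range) (α := G ⧸ H)).1 h hQ.symm hR.symm
      exact ⟨g, (hstab g).1 h1, h2⟩
  have hE3 : ∀ Q : G ⧸ H, Q ≠ P0 → Nat.card ↥(E ⊓ MulAction.stabilizer G Q) = 3 := by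
    intro Q hQ
    have hd : Nat.card ↥(E ⊓ MulAction.stabilizer G Q) ∣ 9 := hE ▸ Subgroup.card_dvd_of_le inf_le_left
    obtain ⟨i, hi, hi'⟩ := (Nat.dvd_prime_pow Nat.prime_three).1 (show _ ∣ 3 ^ 2 from hd)
    interval_cases i
    · exfalso
      -- all stabilisers trivial: two free orbits do not fit
      have hfree : ∀ R : G ⧸ H, R ≠ P0 → ∀ e ∈ E, e • R = R → e = 1 := by
        intro R hR e he heR
        obtain ⟨h, hh, rfl⟩ := h2t Q R hQ hR
        have hmem : h⁻¹ * e * h ∈ E ⊓ MulAction.stabilizer G Q := by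
          refine ⟨by simpa using hn h⁻¹ (inv_mem hh) e he, ?_⟩
          show (h⁻¹ * e * h) • Q = Q
          rw [mul_smul, mul_smul, heR, inv_smul_smul]
        rw [Subgroup.eq_bot_of_card_eq _ hi', Subgroup.mem_bot] at hmem
        calc e = h * (h⁻¹ * e * h) * h⁻¹ := by group
          _ = 1 := by rw [hmem]; group
      set O : Finset (G ⧸ H) := Finset.image (fun e : E => (e : G) • Q) Finset.univ with hO
      have horb : ∀ R : G ⧸ H, R ≠ P0 → (Finset.image (fun e : E => (e : G) • R) Finset.univ).card = 9 := by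
        intro R hR
        rw [Finset.card_image_of_injective _ fun a b h => ?_, Finset.card_univ, ← Nat.card_eq_fintype_card, hE]
        refine Subtype.ext (inv_mul_eq_one.1 (hfree R hR _ (mul_mem (inv_mem a.2) b.2) ?_))
        rw [mul_smul, ← h, inv_smul_smul]
      have hlt : (insert P0 O).card < (Finset.univ : Finset (G ⧸ H)).card := by
        refine lt_of_le_of_lt (Finset.card_insert_le _ _) ?_
        rw [horb Q hQ, Finset.card_univ, hX]
        norm_num
      obtain ⟨R, -, hR⟩ := Finset.exists_mem_notMem_of_card_lt_card hlt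
      rw [Finset.mem_insert, not_or] at hR
      set O' : Finset (G ⧸ H) := Finset.image (fun e : E => (e : G) • R) Finset.univ with hO'
      have hdisj : Disjoint O O' := by
        rw [Finset.disjoint_left]
        intro S hS hS'
        obtain ⟨a, -, rfl⟩ := Finset.mem_image.1 hS
        obtain ⟨b, -, hb⟩ := Finset.mem_image.1 hS'
        refine hR.2 (Finset.mem_image.2 ⟨b⁻¹ * a, Finset.mem_univ _, ?_⟩)
        rw [Subgroup.coe_mul, Subgroup.coe_inv, mul_smul, ← hb, inv_smul_smul]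
      have := Finset.card_le_univ (O ∪ O')
      rw [Finset.card_union_of_disjoint hdisj, horb Q hQ, horb R hR.1, hX] at this
      omega
    · exact hi'
    · exfalso
      have hle : E ⊓ MulAction.stabilizer G Q = E := Subgroup.eq_of_le_of_card_ge inf_le_left (by rw [hi', hE]; norm_num)
      have hEQ : ∀ e ∈ E, e • Q = Q := fun e he => by
        rw [← hle] at he
        exact he.2
      have : E = ⊥ := (Subgroup.eq_bot_iff_forall _).2 fun e he => hfaith e fun R => by
        by_cases hR : R = P0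
        · rw [hR]; exact (hstab e).2 (hEH he)
        · obtain ⟨h, hh, rfl⟩ := h2t Q R hQ hR
          have := hEQ (h⁻¹ * e * h) (by simpa using hn h⁻¹ (inv_mem hh) e he)
          rwa [mul_smul, mul_smul, inv_smul_eq_iff] at this
      rw [this, Subgroup.card_bot] at hE
      omega
  -- fixed sets
  set fix : G → Finset (G ⧸ H) := fun c => Finset.univ.filter fun R => c • R = R with hfix
  have hmemfix : ∀ c R, R ∈ fix c ↔ c • R = R := fun c R => by simp [hfix]
  have hfconj : ∀ (g c : G) (R : G ⧸ H), R ∈ fix (g * c * g⁻¹) ↔ g⁻¹ • R ∈ fix c := fun g c R => by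
    rw [hmemfix, hmemfix, mul_smul, mul_smul, smul_eq_iff_eq_inv_smul]
  have hfcard_conj : ∀ (g c : G), (fix (g * c * g⁻¹)).card = (fix c).card := fun g c =>
    Finset.card_nbij' (fun R => g⁻¹ • R) (fun R => g • R) (fun R hR => (hfconj g c R).1 hR)
      (fun R hR => (hfconj g c _).2 (by simpa using hR)) (fun R _ => smul_inv_smul g R) (fun R _ => inv_smul_smul g R)
  set Es : Finset G := Finset.univ.filter fun e => e ∈ E ∧ e ≠ 1 with hEs
  have hEscard : Es.card = 8 := by
    have h : (Finset.univ.filter fun e => e ∈ E).card = 9 := by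
      rw [← hE, Nat.card_eq_fintype_card, Fintype.card_subtype]
    rw [hEs, show (Finset.univ.filter fun e => e ∈ E ∧ e ≠ 1) = (Finset.univ.filter fun e => e ∈ E).erase 1 by
      ext e; simp [and_comm], Finset.card_erase_of_mem (by simp), h]
  have hP0fix : ∀ e ∈ E, P0 ∈ fix e := fun e he => (hmemfix e P0).2 ((hstab e).2 (hEH he))
  have hfix4 : ∀ e ∈ E, e ≠ 1 → (fix e).card = 4 := by
    intro e he he1
    have hconst : ∀ e' ∈ Es, ((fix e').erase P0).card = ((fix e).erase P0).card := by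
      intro e' he'
      obtain ⟨he', he1'⟩ := (Finset.mem_filter.1 he').2
      obtain ⟨h, hh, rfl⟩ := htr e he he1 e' he' he1'
      rw [Finset.card_erase_of_mem (hP0fix e he), Finset.card_erase_of_mem (hP0fix _ he'), hfcard_conj]
    have hQcount : ∀ Q ∈ (Finset.univ : Finset (G ⧸ H)).erase P0, (Es.filter fun e' => e' • Q = Q).card = 2 := by
      intro Q hQ
      have h3 := hE3 Q (Finset.mem_erase.1 hQ).1
      rw [Nat.card_eq_fintype_card, Fintype.card_subtype] at h3
      rw [hEs, Finset.filter_filter, show (Finset.univ.filter fun e' => (e' ∈ E ∧ e' ≠ 1) ∧ e' • Q = Q) =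
        (Finset.univ.filter fun e' => e' ∈ E ⊓ MulAction.stabilizer G Q).erase 1 by
          ext e'; simp [Subgroup.mem_inf, and_comm, and_assoc, and_left_comm],
        Finset.card_erase_of_mem (by simp), h3]
    have hsum := Finset.sum_card_bipartiteAbove_eq_sum_card_bipartiteBelow (s := Es)
      (t := (Finset.univ : Finset (G ⧸ H)).erase P0) (fun e' Q => e' • Q = Q)
    simp only [Finset.bipartiteAbove, Finset.bipartiteBelow] at hsum
    rw [Finset.sum_congr rfl (fun Q hQ => hQcount Q hQ), Finset.sum_congr rfl (fun e' he' => by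
      rw [show ((Finset.univ : Finset (G ⧸ H)).erase P0).filter (fun Q => e' • Q = Q) = (fix e').erase P0 by
        ext Q; simp [hfix], hconst e' he'])] at hsum
    rw [Finset.sum_const, Finset.sum_const, hEscard, Finset.card_erase_of_mem (Finset.mem_univ _), Finset.card_univ,
      hX, smul_eq_mul, smul_eq_mul, Finset.card_erase_of_mem (hP0fix e he)] at hsum
    omega
  -- two lines centred at the base point
  have hA : ∀ e ∈ E, ∀ e' ∈ E, e ≠ 1 → e' ≠ 1 → ∀ Q, Q ≠ P0 → e • Q = Q → e' • Q = Q → fix e = fix e' := by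
    intro e he e' he' he1 he1' Q hQ h1 h2
    set D := E ⊓ MulAction.stabilizer G Q with hD
    have hD3 := hE3 Q hQ
    haveI : Fact (Nat.Prime 3) := ⟨Nat.prime_three⟩
    have hz : Subgroup.zpowers e = Subgroup.zpowers e' := by
      have key : ∀ c ∈ D, c ≠ 1 → Subgroup.zpowers c = D := fun c hc hc1 => by
        refine Subgroup.eq_of_le_of_card_ge (Subgroup.zpowers_le.2 hc) ?_
        have hd := Subgroup.orderOf_dvd_natCard D hc
        rw [hD3, Nat.dvd_prime Nat.prime_three, orderOf_eq_one_iff] at hd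
        rw [hD3, Nat.card_zpowers, hd.resolve_left hc1]
      rw [key e ⟨he, h1⟩ he1, key e' ⟨he', h2⟩ he1']
    have sub : ∀ a b : G, b ∈ Subgroup.zpowers a → fix a ⊆ fix b := fun a b hb R hR => by
      rw [hmemfix] at hR ⊢
      have : b ∈ MulAction.stabilizer G R := (Subgroup.zpowers_le.2 (show a ∈ MulAction.stabilizer G R from hR)) hb
      exact this
    exact Finset.Subset.antisymm (sub _ _ (hz ▸ Subgroup.mem_zpowers e')) (sub _ _ (hz.symm ▸ Subgroup.mem_zpowers e))
  have hexE : ∀ Q, Q ≠ P0 → ∃ e ∈ E, e ≠ 1 ∧ e • Q = Q := by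
    intro Q hQ
    obtain ⟨a, ha, h⟩ := (E ⊓ MulAction.stabilizer G Q).bot_or_exists_ne_one.resolve_left fun hb => by
      have := hE3 Q hQ
      rw [hb, Subgroup.card_bot] at this
      omega
    exact ⟨a, ha.1, h, ha.2⟩
  -- symmetry
  have hB : ∀ (g e0 : G), e0 ∈ E → e0 ≠ 1 → g • P0 ≠ P0 → P0 ∈ fix (g * e0 * g⁻¹) →
      ∃ e ∈ E, e ≠ 1 ∧ fix (g * e0 * g⁻¹) = fix e := by
    intro g e0 he0 he01 hQ hP
    obtain ⟨e, he, he1, heQ⟩ := hexE _ hQ
    refine ⟨e, he, he1, ?_⟩
    have hQF : g • P0 ∈ fix (g * e0 * g⁻¹) := (hfconj g e0 _).2 (by rw [inv_smul_smul]; exact hP0fix e0 he0)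
    have hinv : ∀ R ∈ fix (g * e0 * g⁻¹), e • R ∈ fix (g * e0 * g⁻¹) := by
      intro R hR
      have hk : g⁻¹ * e * g ∈ H := by
        rw [← hstab, mul_smul, mul_smul, heQ, inv_smul_smul]
      set e0' := g⁻¹ * e * g * e0 * (g⁻¹ * e * g)⁻¹ with he0'
      have hc' : e * (g * e0 * g⁻¹) * e⁻¹ = g * e0' * g⁻¹ := by rw [he0']; group
      have heq : fix e0 = fix e0' := by
        have hne' : g⁻¹ • P0 ≠ P0 := fun h => hQ (by rw [inv_smul_eq_iff] at h; exact h.symm)
        have hne1 : e0' ≠ 1 := fun h => he01 (by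
          calc e0 = (g⁻¹ * e * g)⁻¹ * e0' * (g⁻¹ * e * g) := by rw [he0']; group
            _ = 1 := by rw [h]; group)
        refine hA e0 he0 e0' (hn _ hk e0 he0) he01 hne1 (g⁻¹ • P0) hne' ((hmemfix _ _).1 ((hfconj g e0 P0).1 hP)) ?_
        refine (hmemfix _ _).1 ((hfconj g e0' P0).1 ?_)
        rw [← hc', hfconj, hmemfix]
        have h1 : e⁻¹ • P0 = P0 := (hstab _).2 (inv_mem (hEH he))
        rw [h1]
        exact (hmemfix _ _).1 hP
      have : e • R ∈ fix (g * e0' * g⁻¹) := by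
        rw [← hc', hfconj, inv_smul_smul]
        exact hR
      rw [hfconj, ← heq, ← hfconj] at this
      exact this
    refine Finset.eq_of_subset_of_card_le (fun R hR => ?_) (by rw [hfcard_conj, hfix4 e he he1, hfix4 e0 he0 he01])
    rw [hmemfix]
    by_contra hmove
    have he3 : e ^ 3 = 1 := by
      have hd := Subgroup.orderOf_dvd_natCard (E ⊓ MulAction.stabilizer G (g • P0)) ⟨he, heQ⟩
      rw [hE3 _ hQ] at hd
      exact orderOf_dvd_iff_pow_eq_one.1 hd
    have h2R : e • e • R ≠ R := fun h => hmove (by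
      calc e • R = e • e • e • R := by rw [h]
        _ = R := by rw [← mul_smul, ← mul_smul, show e * e * e = e ^ 3 by simp [pow_succ], he3, one_smul])
    have heP : e • P0 = P0 := (hstab e).2 (hEH he)
    have hRP : R ≠ P0 := fun h => hmove (by rw [h]; exact heP)
    have hRQ : R ≠ g • P0 := fun h => hmove (by rw [h]; exact heQ)
    have h1P : e • R ≠ P0 := fun h => hRP (smul_left_cancel e (h.trans heP.symm))
    have h1Q : e • R ≠ g • P0 := fun h => hRQ (smul_left_cancel e (h.trans heQ.symm))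
    have h2P : e • e • R ≠ P0 := fun h => h1P (smul_left_cancel e (h.trans heP.symm))
    have h2Q : e • e • R ≠ g • P0 := fun h => h1Q (smul_left_cancel e (h.trans heQ.symm))
    have h21 : e • e • R ≠ e • R := fun h => hmove (smul_left_cancel e h)
    have hsub : ({P0, g • P0, R, e • R, e • e • R} : Finset (G ⧸ H)) ⊆ fix (g * e0 * g⁻¹) := by
      intro S hS
      simp only [Finset.mem_insert, Finset.mem_singleton] at hS
      rcases hS with rfl | rfl | rfl | rfl | rfl
      · exact hP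
      · exact hQF
      · exact hR
      · exact hinv _ hR
      · exact hinv _ (hinv _ hR)
    have := Finset.card_le_card hsub
    rw [hfcard_conj, hfix4 e0 he0 he01] at this
    rw [Finset.card_insert_of_notMem (by simp [hQ.symm, hRP.symm, h1P.symm, h2P.symm]),
      Finset.card_insert_of_notMem (by simp [hRQ.symm, h1Q.symm, h2Q.symm]),
      Finset.card_insert_of_notMem (by simp [Ne.symm hmove, h2R.symm]),
      Finset.card_insert_of_notMem (by simp [h21.symm]), Finset.card_singleton] at this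
    omega
  let IsLine : Finset (G ⧸ H) → Prop := fun F => ∃ g e, e ∈ E ∧ e ≠ 1 ∧ F = fix (g * e * g⁻¹)
  have hsmul : ∀ (k : G) F, IsLine F → IsLine (F.image fun R => k • R) := by
    rintro k F ⟨g, e, he, he1, rfl⟩
    refine ⟨k * g, e, he, he1, ?_⟩
    ext R
    rw [Finset.mem_image, show k * g * e * (k * g)⁻¹ = k * (g * e * g⁻¹) * k⁻¹ by group, hfconj k]
    exact ⟨fun ⟨S, hS, h⟩ => h ▸ by rwa [inv_smul_smul], fun h => ⟨_, h, smul_inv_smul k R⟩⟩
  have hcard : ∀ F, IsLine F → F.card = 4 := by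
    rintro F ⟨g, e, he, he1, rfl⟩
    rw [hfcard_conj, hfix4 e he he1]
  have hbase : ∀ F, IsLine F → P0 ∈ F → ∃ e ∈ E, e ≠ 1 ∧ F = fix e := by
    rintro F ⟨g, e, he, he1, rfl⟩ hP
    by_cases hg : g • P0 = P0
    · refine ⟨g * e * g⁻¹, hn g ((hstab g).1 hg) e he, fun h => he1 ?_, rfl⟩
      calc e = g⁻¹ * (g * e * g⁻¹) * g := by group
        _ = 1 := by rw [h]; group
    · exact hB g e he he1 hg hP
  have huniq : ∀ F F', IsLine F → IsLine F' → ∀ R S, R ≠ S → R ∈ F → S ∈ F → R ∈ F' → S ∈ F' → F = F' := by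
    intro F F' hF hF' R S hne h1 h2 h3 h4
    obtain ⟨k, rfl⟩ := MulAction.exists_smul_eq G P0 R
    have tr : ∀ F, IsLine F → k • P0 ∈ F → S ∈ F → ∃ e ∈ E, e ≠ 1 ∧ e • (k⁻¹ • S) = k⁻¹ • S ∧
        F.image (fun R => k⁻¹ • R) = fix e := by
      intro F hF h1 h2
      obtain ⟨e, he, he1, h⟩ := hbase _ (hsmul k⁻¹ F hF) (Finset.mem_image.2 ⟨_, h1, inv_smul_smul k P0⟩)
      refine ⟨e, he, he1, (hmemfix _ _).1 (h ▸ Finset.mem_image_of_mem _ h2), h⟩
    obtain ⟨e, he, he1, heS, e1⟩ := tr F hF h1 h2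
    obtain ⟨e', he', he1', heS', e2⟩ := tr F' hF' h3 h4
    have hSne : k⁻¹ • S ≠ P0 := fun h => hne (by rw [← h, smul_inv_smul])
    rw [hA e he e' he' he1 he1' _ hSne heS heS', ← e2] at e1
    exact (Finset.image_injective (fun a b h => smul_left_cancel k⁻¹ h)) e1
  -- cyclic numbering
  haveI : Fact (Nat.Prime 13) := ⟨by norm_num⟩
  obtain ⟨q, hq⟩ := exists_prime_orderOf_dvd_card' (G := G) 13 (by rw [hG]; norm_num)
  set f0 : Fin 13 → G ⧸ H := fun i => q ^ i.val • P0 with hf0
  have hHcard : Nat.card H = 432 := by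
    have := H.card_mul_index
    rw [hidx, hG] at this
    omega
  have hf0i : Function.Injective f0 := by
    have key : ∀ n : ℕ, n < 13 → q ^ n • P0 = P0 → n = 0 := by
      intro n hn hfixn
      by_contra hn0
      have hd := Subgroup.orderOf_dvd_natCard H ((hstab _).1 hfixn)
      have hcop : (orderOf q).Coprime n := by
        rw [hq]
        exact (Nat.Prime.coprime_iff_not_dvd Fact.out).2 fun h => by have := Nat.le_of_dvd (by omega) h; omega
      rw [hcop.orderOf_pow, hq, hHcard] at hd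
      norm_num at hd
    intro i j h
    apply Fin.ext
    rcases le_total i.val j.val with hle | hle
    · have h' : q ^ i.val • (q ^ (j.val - i.val) • P0) = q ^ i.val • P0 := by
        rw [← mul_smul, ← pow_add, Nat.add_sub_cancel' hle]; exact h.symm
      have := key _ (by omega) (smul_left_cancel _ h')
      omega
    · have h' : q ^ j.val • (q ^ (i.val - j.val) • P0) = q ^ j.val • P0 := by
        rw [← mul_smul, ← pow_add, Nat.add_sub_cancel' hle]; exact h
      have := key _ (by omega) (smul_left_cancel _ h')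
      omega
  have hf0b : Function.Bijective f0 :=
    (Fintype.bijective_iff_injective_and_card f0).2 ⟨hf0i, by rw [hX, Fintype.card_fin]⟩
  have hf0add : ∀ i k : Fin 13, q ^ k.val • f0 i = f0 (i + k) := fun i k => by
    simp only [hf0, ← mul_smul, ← pow_add]
    congr 1
    rw [Fin.val_add, add_comm]
    exact pow_eq_pow_mod _ (by rw [← hq, pow_orderOf_eq_one])
  have h00 : f0 0 = P0 := by simp [hf0]
  obtain ⟨e, he, he1, he'⟩ := hexE (f0 1) (fun h => absurd (hf0i (h.trans h00.symm)) (by decide))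
  set F0 := fix e with hF0
  have hF0l : IsLine F0 := ⟨1, e, he, he1, by simp [hF0]⟩
  have hm0 : f0 0 ∈ F0 := h00 ▸ hP0fix e he
  have hm1 : f0 1 ∈ F0 := (hmemfix _ _).2 he'
  set D : Finset (Fin 13) := Finset.univ.filter fun i => f0 i ∈ F0 with hD
  have hDcard : D.card = 4 := by
    rw [← hcard F0 hF0l, ← Finset.card_image_of_injective D hf0i]
    congr 1
    ext R
    obtain ⟨i, rfl⟩ := hf0b.2 R
    simp [hD, hf0i.eq_iff]
  obtain ⟨a, b, ha0, ha1, hb0, hb1, hab', hDeq⟩ : ∃ a b : Fin 13, a ≠ 0 ∧ a ≠ 1 ∧ b ≠ 0 ∧ b ≠ 1 ∧ a ≠ b ∧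
      ∀ i, f0 i ∈ F0 ↔ i ∈ [0, 1, a, b] := by
    have h01 : ({0, 1} : Finset (Fin 13)) ⊆ D := by
      intro i hi
      rcases Finset.mem_insert.1 hi with rfl | hi
      · simp [hD, hm0]
      · rw [Finset.mem_singleton.1 hi]; simp [hD, hm1]
    have hc2 : (D \ {0, 1}).card = 2 := by
      rw [Finset.card_sdiff_of_subset h01, hDcard]; decide
    obtain ⟨a, b, hab, hab2⟩ := Finset.card_eq_two.1 hc2
    have hma : a ∈ D \ {0, 1} := by rw [hab2]; simp
    have hmb : b ∈ D \ {0, 1} := by rw [hab2]; simp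
    simp only [Finset.mem_sdiff, Finset.mem_insert, Finset.mem_singleton, not_or] at hma hmb
    refine ⟨a, b, hma.2.1, hma.2.2, hmb.2.1, hmb.2.2, hab, fun i => ?_⟩
    have hDu : D = {0, 1} ∪ {a, b} := by rw [← hab2, Finset.union_sdiff_of_subset h01]
    have : i ∈ D ↔ f0 i ∈ F0 := by simp [hD]
    rw [← this, hDu]
    simp only [Finset.mem_union, Finset.mem_insert, Finset.mem_singleton, List.mem_cons, List.not_mem_nil, or_false]
    tauto
  have htrans : ∀ k i : Fin 13, f0 (i + k) ∈ F0.image (fun R => q ^ k.val • R) ↔ f0 i ∈ F0 := fun k i => by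
    rw [Finset.mem_image]
    refine ⟨fun ⟨R, hR, h⟩ => ?_, fun h => ⟨_, h, hf0add i k⟩⟩
    rw [← hf0add] at h
    rwa [← smul_left_cancel _ h]
  have hgood : ∀ i ∈ [0, 1, a, b], ∀ j ∈ [0, 1, a, b], i ≠ j → ∀ k : Fin 13,
      i + k ∈ [0, 1, a, b] → j + k ∈ [0, 1, a, b] → ∀ l ∈ [0, 1, a, b], l + k ∈ [0, 1, a, b] := by
    intro i hi j hj hij k hik hjk l hl
    have := huniq _ _ (hsmul (q ^ k.val) F0 hF0l) hF0l (f0 (i + k)) (f0 (j + k))
      (fun h => hij (add_right_cancel (hf0i h))) ((htrans k i).2 ((hDeq i).2 hi)) ((htrans k j).2 ((hDeq j).2 hj))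
      ((hDeq _).2 hik) ((hDeq _).2 hjk)
    exact (hDeq _).1 (this ▸ (htrans k l).2 ((hDeq l).2 hl))
  obtain ⟨u, v, hu, huv⟩ := difference_set a b ha0 ha1 hb0 hb1 hab' hgood
  set f : Fin 13 → G ⧸ H := fun i => f0 (u * i + v) with hf
  have hfb : Function.Bijective f :=
    (Fintype.bijective_iff_injective_and_card f).2 ⟨fun i j h => affine_bijective u v hu i j (hf0i h), by rw [hX, Fintype.card_fin]⟩
  set Λ : Fin 13 → Finset (G ⧸ H) := fun l => F0.image fun R => q ^ (u * l).val • R with hΛ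
  have hΛl : ∀ l, IsLine (Λ l) := fun l => hsmul _ F0 hF0l
  have hΛmem : ∀ i l, f i ∈ Λ l ↔ inc i l = true := fun i l => by
    rw [huv, ← hDeq, hΛ, hf]
    have := htrans (u * l) (u * i + v - u * l)
    rwa [sub_add_cancel] at this
  have hall : ∀ F, IsLine F → ∃ l, F = Λ l := by
    intro F hF
    obtain ⟨R, hR, S, hS, hne⟩ := Finset.one_lt_card.1 (by rw [hcard F hF]; norm_num : 1 < F.card)
    obtain ⟨i, rfl⟩ := hfb.2 R
    obtain ⟨j, rfl⟩ := hfb.2 S
    obtain ⟨l, hl1, hl2⟩ := line_exists i j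
    exact ⟨l, huniq F _ hF (hΛl l) _ _ hne hR hS ((hΛmem i l).2 hl1) ((hΛmem j l).2 hl2)⟩
  set eq := Equiv.ofBijective f hfb with heq
  let σ : G → Fin 13 → Fin 13 := fun g i => eq.symm (g • f i)
  have hσ : ∀ g i, f (σ g i) = g • f i := fun g i => eq.apply_symm_apply _
  have hτex : ∀ g l, ∃ m, ∀ i, inc (σ g i) m = inc i l := by
    intro g l
    obtain ⟨m, hm⟩ := hall _ (hsmul g _ (hΛl l))
    refine ⟨m, fun i => ?_⟩
    rw [Bool.eq_iff_iff, ← hΛmem, ← hΛmem, hσ, ← hm, Finset.mem_image]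
    exact ⟨fun ⟨R, hR, h⟩ => smul_left_cancel g h ▸ hR, fun h => ⟨_, h, rfl⟩⟩
  choose τ hτ using hτex
  have hσ1 : ∀ i, σ 1 i = i := fun i => hfb.1 (by rw [hσ, one_smul])
  have hσm : ∀ g k i, σ (g * k) i = σ g (σ k i) := fun g k i => hfb.1 (by rw [hσ, hσ, hσ, mul_smul])
  have hσs : ∀ g j, ∃ i, σ g i = j := fun g j => ⟨σ g⁻¹ j, by rw [← hσm, mul_inv_cancel, hσ1]⟩
  have hτu : ∀ g l m, (∀ i, inc (σ g i) m = inc i l) → τ g l = m := fun g l m h => line_ext _ _ fun j => by
    obtain ⟨i, rfl⟩ := hσs g j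
    rw [hτ, h]
  have hτ1 : ∀ l, τ 1 l = l := fun l => hτu 1 l l fun i => by rw [hσ1]
  have hτm : ∀ g k l, τ (g * k) l = τ g (τ k l) := fun g k l => hτu _ _ _ fun i => by rw [hσm, hτ, hτ]
  let π : G →* Equiv.Perm Obj :=
    { toFun := fun g =>
        { toFun := Sum.map (σ g) (τ g)
          invFun := Sum.map (σ g⁻¹) (τ g⁻¹)
          left_inv := fun o => by cases o <;> simp [← hσm, ← hτm, hσ1, hτ1]
          right_inv := fun o => by cases o <;> simp [← hσm, ← hτm, hσ1, hτ1] }
      map_one' := Equiv.ext fun o => by cases o <;> simp [hσ1, hτ1]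
      map_mul' := fun g k => Equiv.ext fun o => by cases o <;> simp [hσm, hτm] }
  have hπ : ∀ g, π g ∈ colAut := by
    intro g
    refine ⟨fun o o' => ?_, fun o => by cases o <;> rfl⟩
    have hinjσ : ∀ i j, σ g i = σ g j → i = j := fun i j h => by
      rw [← hσ1 i, ← hσ1 j, ← inv_mul_cancel g, hσm, hσm, h]
    have hinjτ : ∀ i j, τ g i = τ g j → i = j := fun i j h => by
      rw [← hτ1 i, ← hτ1 j, ← inv_mul_cancel g, hτm, hτm, h]
    rcases o with i | l <;> rcases o' with j | m
    · show (σ g i == σ g j) = (i == j)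
      rw [Bool.eq_iff_iff, beq_iff_eq, beq_iff_eq]
      exact ⟨hinjσ i j, fun h => by rw [h]⟩
    · exact hτ g m i
    · exact hτ g l j
    · show (τ g l == τ g m) = (l == m)
      rw [Bool.eq_iff_iff, beq_iff_eq, beq_iff_eq]
      exact ⟨hinjτ l m, fun h => by rw [h]⟩
  let φ : G →* colAut := π.codRestrict colAut hπ
  have hφ : Function.Injective φ := by
    rw [injective_iff_map_eq_one]
    intro g hg
    refine hfaith g fun R => ?_
    obtain ⟨i, rfl⟩ := hfb.2 R
    have h := DFunLike.congr_fun (congrArg Subtype.val hg) (Sum.inl i)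
    have h' : σ g i = i := Sum.inl_injective h
    rw [← hσ, h']
  have hs : IsSimpleGroup (Matrix.ProjectiveSpecialLinearGroup (Fin 3) (ZMod 3)) := LinGrp.isSimpleGroup_PSL (by simp)
  obtain ⟨⟨e'⟩, hcol⟩ := Cfsg.Agent.FGB.L33.exists_iso_colAut (Cfsg.Agent.FGB.L33.isSimple hs)
  have hinj : Function.Injective (QuotientGroup.mk' (Subgroup.center Cfsg.Agent.FGB.L33.SL3)) := by
    rw [← MonoidHom.ker_eq_bot_iff, QuotientGroup.ker_mk', Cfsg.Agent.FGB.L33.center_eq_bot]
  exact ⟨((MulEquiv.ofBijective φ ((Nat.bijective_iff_injective_and_card φ).2 ⟨hφ, hG.trans hcol.symm⟩)).trans e'.symm).trans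
    (MulEquiv.ofBijective _ ⟨hinj, QuotientGroup.mk'_surjective _⟩)⟩

end Cfsg.Agent.Recog.CentGL23.Plane
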